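import Cfsg.Agent.Lib.SUThreePresent.Main
import Cfsg.Agent.Lib.SpPresent.Result

/-!
Passing from `SU_n` to `PSU_n`.
-/

set_option autoImplicit false

namespace CfsgLib.SUThreePresent

open CfsgLib.SymPresent

variable {F : Type*} [Field F] [Fintype F] {q : ℕ}

theorem q_two_le (hF : Fintype.card F = q ^ 2) : 2 ≤ q := by
  have := Fintype.one_lt_card (α := F)
  by_contra h
  interval_cases q <;> simp_all

theorem psu_of_su (hF : Fintype.card F = q ^ 2) {n k r : ℕ} (hn : 1 ≤ n)
    {v : Fin k → ↥(Cfsg.SU n F q)} (h : HasPres v r) :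
    ∃ w : Fin k → Cfsg.PSU n F q, HasPres w (r + 1) := by
  obtain ⟨z, hz, hle⟩ := center_le_zpowers hF hn
  exact ⟨_, CfsgLib.SpPresent.hasPres_quotient h _ hz hle⟩

end CfsgLib.SUThreePresent
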