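import Cfsg.Agent.Lib.SUThreePresent.Param

/-!
Field arithmetic for the presentation of `SU_3`, and the two ways in which few relations make a central
conjugacy class commute with the unipotent generator.
-/

set_option autoImplicit false
set_option linter.unusedSectionVars false

namespace CfsgLib.SUThreePresent

open Polynomial CfsgLib.RegUnipU CfsgLib.SLTwoPresent

variable {F : Type*} [Field F] {q : ℕ} {C : Conj F q} {ω : F}

namespace Gen

variable (O : Gen F q ω)
include O

theorem x_pow (C : Conj F q) : xK C ω ^ (q - 1) = 1 := by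
  refine Subtype.ext ?_
  rw [SubmonoidClass.coe_pow, xK]
  show (ω * C.σ ω) ^ (q - 1) = 1
  rw [C.hσ, ← pow_succ', ← pow_mul, ← O.sq_sub, ← O.ord, pow_orderOf_eq_one]

theorem theta_sigma (C : Conj F q) : ω ^ (q - 1) * C.σ (ω ^ (q - 1)) = 1 := by
  rw [C.hσ, ← pow_succ', ← pow_mul, mul_comm, ← O.sq_sub, ← O.ord, pow_orderOf_eq_one]

theorem theta_dvd {j : ℕ} (h : (ω ^ (q - 1)) ^ j = 1) : q + 1 ∣ j := by
  have hq := O.hq
  rw [← pow_mul] at h
  have h2 := orderOf_dvd_of_pow_eq_one h
  rw [O.ord, O.sq_sub, mul_comm (q + 1)] at h2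
  exact Nat.dvd_of_mul_dvd_mul_left (by omega) h2

/-- The multiplier of `h^(q-1)` generates the field, unless `q` is 2, 3, 5 or 8. -/
theorem mu_surj (C : Conj F q) [Fintype F] (hF : Fintype.card F = q ^ 2) {p : ℕ} [Fact p.Prime]
    [Algebra (ZMod p) F] (h4 : 4 ≤ q) (h5 : q ≠ 5) (h8 : q ≠ 8) :
    Function.Surjective (aeval ((ω ^ (q - 1)) ^ 3) : (ZMod p)[X] → F) := by
  classical
  set μ := (ω ^ (q - 1)) ^ 3 with hμ
  let A : Subalgebra (ZMod p) F := (aeval μ : (ZMod p)[X] →ₐ[ZMod p] F).range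
  haveI : Fintype A := Fintype.ofFinite A
  letI : Field A := Fintype.fieldOfDomain A
  have hr : Fintype.card F = Fintype.card A ^ Module.finrank A F := Module.card_eq_pow_finrank
  set r := Module.finrank A F
  have hμA : μ ∈ A := ⟨X, aeval_X μ⟩
  have hpow : μ ^ Fintype.card A = μ := congrArg Subtype.val (FiniteField.pow_card (⟨μ, hμA⟩ : A))
  have hμ0 : μ ≠ 0 := pow_ne_zero _ (pow_ne_zero _ O.ne_zero)
  rcases Nat.lt_or_ge r 2 with hr2 | hr2
  · rcases (show r = 0 ∨ r = 1 by omega) with h | h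
    · rw [h, hF, pow_zero] at hr
      nlinarith
    intro t
    have hb : Function.Bijective (Subtype.val : A → F) :=
      (Fintype.bijective_iff_injective_and_card _).2 ⟨Subtype.val_injective, by rw [hr, h, pow_one]⟩
    obtain ⟨⟨s, Q, hQ⟩, rfl⟩ := hb.2 t
    exact ⟨Q, hQ⟩
  exfalso
  rcases Nat.even_or_odd r with ⟨i, hi⟩ | hodd
  · -- `μ` is fixed by the conjugation
    have hq : q = Fintype.card A ^ i :=
      Nat.pow_left_injective two_ne_zero
        (show q ^ 2 = (Fintype.card A ^ i) ^ 2 by rw [← hF, hr, hi, ← pow_mul]; congr 1; omega)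
    have hfix : μ ^ q = μ := by
      rw [hq]
      clear hq hi
      induction i with
      | zero => simp
      | succ i ih => rw [pow_succ, pow_mul, ih, hpow]
    rw [← C.hσ] at hfix
    have h1 : μ * C.σ μ = 1 := by rw [hμ, map_pow, ← mul_pow, O.theta_sigma, one_pow]
    rw [hfix, hμ, ← pow_add] at h1
    have := Nat.le_of_dvd (by norm_num) (O.theta_dvd h1)
    have h2 := O.theta_dvd h1
    have h6 : q ≤ 5 := by omega
    interval_cases q <;> first | omega | norm_num at h2
  · have hA2 : 2 ≤ Fintype.card A := Fintype.one_lt_card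
    have h3 : Fintype.card A ^ 3 ≤ q ^ 2 := by
      rw [← hF, hr]
      refine Nat.pow_le_pow_right (by omega) ?_
      obtain ⟨i, hi⟩ := hodd
      omega
    have h1 : μ ^ (Fintype.card A - 1) = 1 := by
      apply mul_right_cancel₀ hμ0
      rw [← pow_succ, Nat.sub_add_cancel (by omega), one_mul, hpow]
    rw [hμ, ← pow_mul] at h1
    have hle := Nat.le_of_dvd (by omega) (O.theta_dvd h1)
    have h27 : (q + 4) ^ 3 ≤ 27 * q ^ 2 :=
      (Nat.pow_le_pow_left (show q + 4 ≤ 3 * Fintype.card A by omega) 3).trans (by rw [mul_pow]; omega)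
    rcases Nat.lt_or_ge q 8 with h7 | h7
    · interval_cases q <;> norm_num at h27
    · obtain ⟨j, rfl⟩ : ∃ j, q = 9 + j := ⟨q - 9, by omega⟩
      have := Nat.zero_le (j ^ 3)
      have := Nat.zero_le (j ^ 2)
      ring_nf at h27
      omega

theorem card_K_le (C : Conj F q) [Fintype F] : Nat.card (Kfix C) ≤ q := by
  classical
  have hq := O.hq
  let f : Option (Fin (q - 1)) → Kfix C := fun o => o.elim 0 fun i => xK C ω ^ (i : ℕ)
  have hf : Function.Surjective f := fun t => by
    rcases eq_or_ne t 0 with rfl | ht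
    · exact ⟨none, rfl⟩
    obtain ⟨i, rfl⟩ := O.x_gen C t ht
    exact ⟨some ⟨i % (q - 1), Nat.mod_lt _ (by omega)⟩, (pow_eq_pow_mod _ (O.x_pow C)).symm⟩
  refine (Nat.card_le_card_of_surjective f hf).trans ?_
  rw [Nat.card_eq_fintype_card, Fintype.card_option, Fintype.card_fin]
  omega

theorem deg_le (C : Conj F q) [Fintype F] {p : ℕ} [hp : Fact p.Prime] [Algebra (ZMod p) (Kfix C)]
    (h8 : q ≤ 8) : (minpoly (ZMod p) (xK C ω)).natDegree ≤ 3 := by
  haveI : Fintype (Kfix C) := Fintype.ofFinite _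
  have h1 := (O.card_K_le C).trans h8
  rw [Nat.card_eq_fintype_card, Module.card_eq_pow_finrank (K := ZMod p), ZMod.card] at h1
  have h2 : Module.finrank (ZMod p) (Kfix C) ≤ 3 :=
    (Nat.pow_le_pow_iff_right (by norm_num : 1 < 2)).1
      (((Nat.pow_le_pow_left hp.out.two_le _).trans h1).trans_eq (by norm_num))
  exact (minpoly.natDegree_le _).trans h2

end Gen

section Cen

variable {p : ℕ} {G : Type*} [Group G]

theorem word_mem {S : Subgroup G} {u g : G} (hu : ∀ i : ℕ, g ^ i * u * (g ^ i)⁻¹ ∈ S)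
    (Q : (ZMod p)[X]) : word u g Q ∈ S := by
  refine Subgroup.list_prod_mem _ fun a ha => ?_
  obtain ⟨i, -, rfl⟩ := List.mem_map.1 ha
  exact S.pow_mem (hu i) _

theorem commute_word {a u g : G} {Q : (ZMod p)[X]}
    (h : ∀ i ≤ Q.natDegree, Commute a (g ^ i * u * (g ^ i)⁻¹)) : Commute a (word u g Q) := by
  refine Commute.list_prod_right _ _ fun b hb => ?_
  obtain ⟨i, hi, rfl⟩ := List.mem_map.1 hb
  exact (h i (by have := List.mem_range.1 hi; omega)).pow_right _

/-- Commutation with one element spreads along a relation moving `u` by `h`. -/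
theorem cen_of_word {u h z : G} {N e : ℕ} (hN0 : 0 < N) (hN : h ^ N = 1) (hz : Commute u z)
    (he : Commute (h ^ e) z) (hcomm : ∀ k : ℕ, Commute z (h ^ k * z * (h ^ k)⁻¹))
    {Q R : (ZMod p)[X]} (hrel : h * u * h⁻¹ = word u (h ^ e) Q * word z h R) :
    ∀ k : ℕ, Commute u (h ^ k * z * (h ^ k)⁻¹) := by
  set s : ℕ → G := fun k => h ^ k * z * (h ^ k)⁻¹ with hs
  have hshift : ∀ a b, h ^ a * s b * (h ^ a)⁻¹ = s (a + b) := fun a b => by
    simp only [hs]; rw [pow_add]; group
  have hle : ∀ i d, Commute (s i) (s (i + d)) := fun i d => by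
    have := (hcomm d).map (MulAut.conj (h ^ i)).toMonoidHom
    simp only [MulEquiv.coe_toMonoidHom, MulAut.conj_apply] at this
    rw [← hshift i d]
    exact this
  have hall : ∀ i j, Commute (s i) (s j) := fun i j => by
    rcases Nat.le_total i j with hij | hij
    · obtain ⟨d, rfl⟩ := Nat.exists_eq_add_of_le hij; exact hle i d
    · obtain ⟨d, rfl⟩ := Nat.exists_eq_add_of_le hij; exact (hle j d).symm
  have hfix : ∀ i j, (h ^ e) ^ i * s j * ((h ^ e) ^ i)⁻¹ = s j := fun i j => by
    rw [← pow_mul, hshift, add_comm, ← hshift j (e * i)]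
    simp only [hs]
    rw [show h ^ (e * i) * z * (h ^ (e * i))⁻¹ = z by
      rw [pow_mul, (he.pow_left i).eq, mul_inv_cancel_right]]
  have key : ∀ n j, N ∣ j + n → Commute u (s j) := by
    intro n
    induction n with
    | zero =>
      intro j hj
      obtain ⟨c, rfl⟩ := hj
      simpa [hs, pow_mul, hN] using hz
    | succ n ih =>
      intro j hj
      have h1 : Commute u (s (j + 1)) := ih (j + 1) (by rwa [add_right_comm])
      have h2 : Commute (h * u * h⁻¹) (s (j + 1)) := by
        rw [hrel]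
        refine (Commute.symm (commute_word fun i _ => ?_)).mul_left (Commute.symm (commute_word fun i _ => ?_))
        · have := (h1.map (MulAut.conj ((h ^ e) ^ i)).toMonoidHom).symm
          simpa only [MulEquiv.coe_toMonoidHom, MulAut.conj_apply, hfix] using this
        · exact hall (j + 1) i
      have h3 := h2.map (MulAut.conj h⁻¹).toMonoidHom
      simp only [MulEquiv.coe_toMonoidHom, MulAut.conj_apply, inv_inv] at h3
      rwa [show h⁻¹ * (h * u * h⁻¹) * h = u by group, show h⁻¹ * s (j + 1) * h = s j by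
        simp only [hs]; rw [pow_succ']; group] at h3
  intro k
  refine key (k * (N - 1)) k ⟨k, ?_⟩
  obtain ⟨N', rfl⟩ := Nat.exists_eq_succ_of_ne_zero hN0.ne'
  simp only [Nat.succ_eq_add_one, Nat.add_sub_cancel]
  ring

/-- Commutation with a spanning set of conjugates spreads to all. -/
theorem cen_of_deg [Fact p.Prime] {K : Type*} [Field K] [Algebra (ZMod p) K] {u h z : G} {x : K}
    {d : ℕ} (hd : (minpoly (ZMod p) x).natDegree ≤ d) (hint : IsIntegral (ZMod p) x)
    (hw : ∀ Q R : (ZMod p)[X], aeval x Q = aeval x R → word z h Q = word z h R)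
    (hsmall : ∀ i < d, Commute u (h ^ i * z * (h ^ i)⁻¹)) :
    ∀ k : ℕ, Commute u (h ^ k * z * (h ^ k)⁻¹) := by
  intro k
  have hX : word z h (X ^ k : (ZMod p)[X]) = h ^ k * z * (h ^ k)⁻¹ := by
    rw [word, natDegree_X_pow, List.range_succ, List.map_append, List.prod_append]
    have h0 : ((List.range k).map fun i =>
        (h ^ i * z * (h ^ i)⁻¹) ^ ((X ^ k : (ZMod p)[X]).coeff i).val).prod = 1 :=
      List.prod_eq_one fun a ha => by
        obtain ⟨i, hi, rfl⟩ := List.mem_map.1 ha
        rw [coeff_X_pow, if_neg (List.mem_range.1 hi).ne, ZMod.val_zero, pow_zero]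
    rw [h0, one_mul]
    simp [ZMod.val_one]
  rw [← hX, hw (X ^ k) (X ^ k %ₘ minpoly (ZMod p) x) (by
    rw [aeval_modByMonic_eq_self_of_root (minpoly.aeval _ _)])]
  refine commute_word fun i hi => hsmall i ?_
  have hlt := natDegree_modByMonic_lt (X ^ k) (minpoly.monic hint) (minpoly.ne_one _ _)
  omega

end Cen

end CfsgLib.SUThreePresent
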