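import Cfsg.Agent.Lib.SUThreePresent.Mat

/-!
Two Bruhat relations give all of them, and then the normal forms exhaust the group.
-/

set_option autoImplicit false
set_option linter.unusedSectionVars false
set_option linter.unusedSimpArgs false

namespace CfsgLib.SUThreePresent

open Matrix CfsgLib.RegUnipU

variable {F : Type*} [Field F] {q : ℕ} {C : Conj F q}


/-- The field data: a generator of the multiplicative group of a field with `q²` elements. -/
structure Gen (F : Type*) [Field F] (q : ℕ) (ω : F) : Prop where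
  hq : 2 ≤ q
  ord : orderOf ω = q ^ 2 - 1
  gen : ∀ t : F, t ≠ 0 → ∃ j : ℕ, t = ω ^ j

namespace Gen

variable {ω : F} (O : Gen F q ω)
include O

theorem sq_sub : q ^ 2 - 1 = (q + 1) * (q - 1) := by
  have := Nat.sq_sub_sq q 1; simpa using this

theorem ne_zero : ω ≠ 0 := fun h => by
  have h0 := O.ord
  rw [h, orderOf_zero] at h0
  have := O.hq
  have : 4 ≤ q ^ 2 := by nlinarith
  omega

theorem norm_surj (C : Conj F q) {r : F} (hr : C.σ r = r) (h0 : r ≠ 0) :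
    ∃ γ : F, γ ≠ 0 ∧ γ * C.σ γ = r := by
  obtain ⟨j, rfl⟩ := O.gen r h0
  have hq := O.hq
  have h1 : (ω ^ j) ^ (q - 1) = 1 := by
    apply mul_right_cancel₀ h0
    rw [← pow_succ, Nat.sub_add_cancel (by omega), one_mul, ← C.hσ, hr]
  rw [← pow_mul] at h1
  have h2 := orderOf_dvd_of_pow_eq_one h1
  rw [O.ord, O.sq_sub] at h2
  obtain ⟨i, rfl⟩ := Nat.dvd_of_mul_dvd_mul_right (by omega) h2
  exact ⟨ω ^ i, pow_ne_zero _ O.ne_zero, by rw [C.hσ, ← pow_mul, ← pow_add]; congr 1; ring⟩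

theorem unit_circle (C : Conj F q) {x : F} (hx : x * C.σ x = 1) :
    ∃ k ≤ q, x = (ω ^ (q - 1)) ^ k := by
  obtain ⟨j, rfl⟩ := O.gen x (left_ne_zero_of_mul_eq_one hx)
  have hq := O.hq
  rw [C.hσ, ← pow_succ', ← pow_mul] at hx
  have h2 := orderOf_dvd_of_pow_eq_one hx
  rw [O.ord, O.sq_sub, mul_comm j, Nat.mul_dvd_mul_iff_left (by omega : 0 < q + 1)] at h2
  obtain ⟨i, rfl⟩ := h2
  refine ⟨i % (q + 1), Nat.le_of_lt_succ (Nat.mod_lt _ (by omega)), ?_⟩
  rw [← pow_mul]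
  have h3 : ω ^ ((q - 1) * (q + 1)) = 1 := by
    rw [mul_comm, ← O.sq_sub, ← O.ord, pow_orderOf_eq_one]
  conv_lhs => rw [← Nat.mod_add_div i (q + 1), mul_add, pow_add, ← mul_assoc, pow_mul _ (_ * (q + 1)),
    h3, one_pow, mul_one]

theorem circle_ne_one {k : ℕ} (h0 : 0 < k) (hk : k ≤ q) : (ω ^ (q - 1)) ^ k ≠ 1 := by
  intro h
  rw [← pow_mul] at h
  have h2 := orderOf_dvd_of_pow_eq_one h
  have hq := O.hq
  rw [O.ord, O.sq_sub, mul_comm (q + 1), Nat.mul_dvd_mul_iff_left (by omega : 0 < q - 1)] at h2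
  have := Nat.le_of_dvd h0 h2
  omega

theorem sigma_omega (C : Conj F q) : C.σ ω = ω * ω ^ (q - 1) := by
  have := O.hq
  rw [C.hσ, ← pow_succ', Nat.sub_add_cancel (by omega)]

end Gen

/-- A group over the Borel data of the anti-diagonal unitary group. -/
structure Bru (C : Conj F q) (ω : F) {G : Type*} [Group G] (π : G →* Matrix (Fin 3) (Fin 3) F) (ψ : F → F → G) (h w : G) :
    Prop where
  gn : Gen F q ω
  add : ∀ {a b c d}, Vl C a b → Vl C c d → ψ a b * ψ c d = ψ (a + c) (b + d - a * C.σ c)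
  img : ∀ {a b}, Vl C a b → π (ψ a b) = Um C a b
  img_h : π h = Tm C ω
  img_w : π w = Wm
  conj : ∀ {a b}, Vl C a b → h * ψ a b * h⁻¹ = ψ (ω ^ 2 / C.σ ω * a) (ω * C.σ ω * b)
  wsq : w * w = 1
  wh : w * h * w = (h ^ q)⁻¹
  hpow : h ^ (q ^ 2 - 1) = 1

/-- The big cell. -/
def Big (C : Conj F q) {G : Type*} [Group G] (ψ : F → F → G) (h w : G) : Set G :=
  {g | ∃ x y : F × F, ∃ k : ℕ, Vl C x.1 x.2 ∧ Vl C y.1 y.2 ∧ g = ψ x.1 x.2 * h ^ k * w * ψ y.1 y.2}

/-- The Bruhat relation for one unipotent element. -/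
def Kn (C : Conj F q) {G : Type*} [Group G] (ψ : F → F → G) (h w : G) (a b : F) : Prop :=
  w * ψ a b * w ∈ Big C ψ h w

namespace Bru

variable {ω : F} {G : Type*} [Group G] {π : G →* Matrix (Fin 3) (Fin 3) F} {ψ : F → F → G} {h w : G}
  (D : Bru C ω π ψ h w)
include D


theorem psi_zero : ψ 0 0 = 1 := by
  have h1 := D.add (Vl.zero (C := C)) Vl.zero
  simp only [add_zero, mul_zero, sub_zero, map_zero] at h1
  exact mul_eq_left.1 h1

theorem psi_inv {a b : F} (hv : Vl C a b) : (ψ a b)⁻¹ = ψ (-a) (C.σ b) := by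
  refine inv_eq_of_mul_eq_one_right ?_
  rw [D.add hv hv.inv, ← D.psi_zero]
  congr 1
  · ring
  · unfold Vl at hv
    rw [map_neg]
    linear_combination hv

theorem conj_pow (k : ℕ) {a b : F} (hv : Vl C a b) :
    h ^ k * ψ a b = ψ ((ω ^ k) ^ 2 / C.σ (ω ^ k) * a) (ω ^ k * C.σ (ω ^ k) * b) * h ^ k := by
  induction k generalizing a b with
  | zero => simp
  | succ k ih =>
    have hσ : C.σ ω ≠ 0 := (map_ne_zero C.σ).2 D.gn.ne_zero
    have e := D.conj hv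
    rw [mul_inv_eq_iff_eq_mul] at e
    rw [pow_succ, mul_assoc, e, ← mul_assoc, ih (hv.smul D.gn.ne_zero), mul_assoc]
    congr 2
    · rw [show ω ^ (k + 1) = ω ^ k * ω from pow_succ ω k, map_mul, mul_pow]; field_simp
    · rw [show ω ^ (k + 1) = ω ^ k * ω from pow_succ ω k, map_mul]; ring

theorem inv_pow' (k : ℕ) : ∃ m : ℕ, (h ^ k)⁻¹ = h ^ m := by
  refine ⟨k * (q ^ 2 - 1) - k, inv_eq_of_mul_eq_one_right ?_⟩
  have hq := D.gn.hq
  have : 1 ≤ q ^ 2 - 1 := by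
    have : 4 ≤ q ^ 2 := by nlinarith
    omega
  rw [← pow_add, Nat.add_sub_cancel' (Nat.le_mul_of_pos_right k (by omega)), mul_comm, pow_mul,
    D.hpow, one_pow]

theorem w_inv : w⁻¹ = w := inv_eq_of_mul_eq_one_right D.wsq

theorem w_pow (k : ℕ) : ∃ m : ℕ, w * h ^ k * w = h ^ m := by
  obtain ⟨m, hm⟩ := D.inv_pow' (q * k)
  refine ⟨m, ?_⟩
  have : w * h ^ k * w⁻¹ = (w * h * w⁻¹) ^ k := (_root_.conj_pow).symm
  rw [D.w_inv, D.wh] at this
  rw [this, inv_pow, ← pow_mul, hm]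

theorem w_move (k : ℕ) : ∃ m : ℕ, w * h ^ k = h ^ m * w := by
  obtain ⟨m, hm⟩ := D.w_pow k
  exact ⟨m, by rw [← hm, mul_assoc _ w w, D.wsq, mul_one]⟩

theorem w_mem : w ∈ (Big C ψ h w) :=
  ⟨(0, 0), (0, 0), 0, Vl.zero, Vl.zero, by simp [D.psi_zero]⟩

theorem psi_mul {a b : F} (hv : Vl C a b) {g : G} (hg : g ∈ (Big C ψ h w)) : ψ a b * g ∈ (Big C ψ h w) := by
  obtain ⟨x, y, k, hx, hy, rfl⟩ := hg
  refine ⟨(_, _), y, k, hv.add hx, hy, ?_⟩
  rw [← D.add hv hx]; simp only [mul_assoc]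

theorem mul_psi {a b : F} (hv : Vl C a b) {g : G} (hg : g ∈ (Big C ψ h w)) : g * ψ a b ∈ (Big C ψ h w) := by
  obtain ⟨x, y, k, hx, hy, rfl⟩ := hg
  refine ⟨x, (_, _), k, hx, hy.add hv, ?_⟩
  rw [← D.add hy hv]; simp only [mul_assoc]

theorem pow_mul_mem (m : ℕ) {g : G} (hg : g ∈ (Big C ψ h w)) : h ^ m * g ∈ (Big C ψ h w) := by
  obtain ⟨x, y, k, hx, hy, rfl⟩ := hg
  refine ⟨((ω ^ m) ^ 2 / C.σ (ω ^ m) * x.1, ω ^ m * C.σ (ω ^ m) * x.2), y, m + k,
    hx.smul (pow_ne_zero _ D.gn.ne_zero), hy, ?_⟩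
  rw [← mul_assoc, ← mul_assoc, ← mul_assoc, D.conj_pow m hx, pow_add]
  simp only [mul_assoc]

theorem mul_pow_mem (m : ℕ) {g : G} (hg : g ∈ (Big C ψ h w)) : g * h ^ m ∈ (Big C ψ h w) := by
  obtain ⟨x, y, k, hx, hy, rfl⟩ := hg
  obtain ⟨l, hl⟩ := D.inv_pow' m
  obtain ⟨n, hn⟩ := D.w_move m
  have hv := hy.smul (pow_ne_zero l D.gn.ne_zero)
  refine ⟨x, (_, _), k + n, hx, hv, ?_⟩
  have e : ψ y.1 y.2 * h ^ m =
      h ^ m * ψ ((ω ^ l) ^ 2 / C.σ (ω ^ l) * y.1) (ω ^ l * C.σ (ω ^ l) * y.2) := by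
    have e0 := D.conj_pow l hy
    rw [← hl] at e0
    rw [← inv_mul_eq_iff_eq_mul, ← mul_assoc, e0, inv_mul_cancel_right]
  rw [mul_assoc _ (ψ y.1 y.2), e, ← mul_assoc, mul_assoc _ w (h ^ m), hn, ← mul_assoc, pow_add]
  simp only [mul_assoc]

theorem pi_big {x y : F × F} (hx : Vl C x.1 x.2) (hy : Vl C y.1 y.2) (k : ℕ) :
    π (ψ x.1 x.2 * h ^ k * w * ψ y.1 y.2) = bigForm C x (ω ^ k) y := by
  have hp : ∀ k, π (h ^ k) = Tm C (ω ^ k) := fun k => by
    induction k with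
    | zero => rw [pow_zero, pow_zero, map_one, Tm_one]
    | succ k ih => rw [pow_succ, map_mul, ih, D.img_h, Tm_mul, pow_succ]
  rw [map_mul, map_mul, map_mul, D.img hx, hp, D.img_w, D.img hy, bigForm]

/-- The exact form of a Bruhat relation. -/
theorem exact_form {a b : F} (hv : Vl C a b) (hb : b ≠ 0) (hK : Kn C ψ h w a b) :
    ∃ k : ℕ, w * ψ a b * w = ψ (-a / C.σ b) (1 / b) * h ^ k * w * ψ (-a / b) (1 / b) := by
  obtain ⟨x, y, k, hx, hy, e⟩ := hK
  have h1 := congrArg π e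
  rw [map_mul, map_mul, D.img hv, D.img_w, bruhat_id hv hb, D.pi_big hx hy] at h1
  have h2 : bigForm C (-a / C.σ b, 1 / b) (C.σ b)⁻¹ (-a / b, 1 / b) = bigForm C x (ω ^ k) y := h1
  obtain ⟨r1, -, r3⟩ := bigForm_inj (inv_ne_zero ((map_ne_zero C.σ).2 hb)) h2
  exact ⟨k, by rw [e, ← r1, ← r3]⟩

theorem K_conj {γ : F} (hγ : γ ≠ 0) {a b : F} (hv : Vl C a b) (hK : Kn C ψ h w a b) :
    Kn C ψ h w (γ ^ 2 / C.σ γ * a) (γ * C.σ γ * b) := by
  obtain ⟨k, rfl⟩ := D.gn.gen γ hγ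
  obtain ⟨l, hl⟩ := D.inv_pow' k
  obtain ⟨m, hm⟩ := D.w_pow k
  obtain ⟨n, hn⟩ := D.w_pow l
  show w * ψ _ _ * w ∈ (Big C ψ h w)
  rw [show ψ ((ω ^ k) ^ 2 / C.σ (ω ^ k) * a) (ω ^ k * C.σ (ω ^ k) * b) = h ^ k * ψ a b * (h ^ k)⁻¹ by
    rw [D.conj_pow k hv, mul_inv_cancel_right], hl,
    show w * (h ^ k * ψ a b * h ^ l) * w = (w * h ^ k * w) * (w * ψ a b * w) * (w * h ^ l * w) by
      rw [show (w * h ^ k * w) * (w * ψ a b * w) * (w * h ^ l * w) =
        w * h ^ k * (w * w) * ψ a b * (w * w) * h ^ l * w by group, D.wsq, mul_one, mul_one]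
      group, hm, hn]
  exact D.mul_pow_mem n (D.pow_mul_mem m hK)

theorem K_left {a b : F} (hv : Vl C a b) (hb : b ≠ 0) (hK : Kn C ψ h w a b) :
    Kn C ψ h w (a / C.σ b) (1 / C.σ b) := by
  obtain ⟨k, e⟩ := D.exact_form hv hb hK
  obtain ⟨m, hm⟩ := D.w_pow k
  have hl := hv.left hb
  have e1 : ψ (a / C.σ b) (1 / C.σ b) = (ψ (-a / C.σ b) (1 / b))⁻¹ := by
    rw [D.psi_inv hl, map_div₀, map_one, neg_div, neg_neg]
  show w * ψ _ _ * w ∈ (Big C ψ h w)
  have key : w * ψ (a / C.σ b) (1 / C.σ b) * w = h ^ m * (ψ (-a / b) (1 / b) * (w * ψ (-a) (C.σ b))) := by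
    rw [e1, ← D.psi_inv hv, ← hm]
    have e2 : (ψ (-a / C.σ b) (1 / b))⁻¹ = h ^ k * w * ψ (-a / b) (1 / b) * (w * ψ a b * w)⁻¹ := by
      rw [e]; group
    rw [e2, _root_.mul_inv_rev, _root_.mul_inv_rev, D.w_inv]
    calc w * (h ^ k * w * ψ (-a / b) (1 / b) * (w * ((ψ a b)⁻¹ * w))) * w
        = w * h ^ k * w * ψ (-a / b) (1 / b) * w * (ψ a b)⁻¹ * (w * w) := by group
      _ = _ := by rw [D.wsq, mul_one]; group
  rw [key]
  exact D.pow_mul_mem m (D.psi_mul (hv.right hb) (D.mul_psi hv.inv D.w_mem))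

theorem K_rule {a b s : F} (hv : Vl C a b) (hb : b ≠ 0) (hs : C.σ s = -s) (hs0 : s ≠ 0)
    (hz : Kn C ψ h w 0 s) (hK : Kn C ψ h w a b) (hK' : Kn C ψ h w (-a / C.σ b) (1 / s + 1 / b)) : Kn C ψ h w a (s + b) := by
  have hvz : Vl C 0 s := Vl.central.2 hs
  obtain ⟨j, ej⟩ := D.exact_form hvz hs0 hz
  obtain ⟨i, ei⟩ := D.exact_form hv hb hK
  obtain ⟨m, hm⟩ := D.w_pow i
  have e1 : ψ a (s + b) = ψ 0 s * ψ a b := by rw [D.add hvz hv]; simp
  have hz1 : Vl C (0 : F) (1 / s) := Vl.central.2 (by rw [map_div₀, map_one, hs, div_neg])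
  have e2 : ψ 0 (1 / s) * ψ (-a / C.σ b) (1 / b) = ψ (-a / C.σ b) (1 / s + 1 / b) := by
    rw [D.add hz1 (hv.left hb)]; simp
  simp only [neg_zero, zero_div] at ej
  show w * ψ a (s + b) * w ∈ (Big C ψ h w)
  have key : w * ψ a (s + b) * w = ψ 0 (1 / s) *
      (h ^ j * ((w * ψ (-a / C.σ b) (1 / s + 1 / b) * w) * h ^ m * ψ (-a / b) (1 / b))) := by
    calc w * ψ a (s + b) * w = (w * ψ 0 s * w) * (w * ψ a b * w) := by
          rw [e1, show (w * ψ 0 s * w) * (w * ψ a b * w) = w * ψ 0 s * (w * w) * ψ a b * w by group,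
            D.wsq, mul_one]
          group
      _ = ψ 0 (1 / s) * (h ^ j * (w * (ψ 0 (1 / s) * ψ (-a / C.σ b) (1 / b)) * h ^ i * w *
          ψ (-a / b) (1 / b))) := by rw [ej, ei]; group
      _ = ψ 0 (1 / s) * (h ^ j * ((w * ψ (-a / C.σ b) (1 / s + 1 / b) * w) * (w * h ^ i * w) *
          ψ (-a / b) (1 / b))) := by
          rw [e2, show ∀ X : G, (w * X * w) * (w * h ^ i * w) = w * X * (w * w) * h ^ i * w from
            fun X => by group, D.wsq, mul_one]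
      _ = _ := by rw [hm]
  rw [key]
  exact D.psi_mul hz1 (D.pow_mul_mem j (D.mul_psi (hv.right hb) (D.mul_pow_mem m hK')))

/-- Two relations give all of them. -/
theorem K_all {s0 a0 b0 : F} (hs0 : C.σ s0 = -s0) (hs0' : s0 ≠ 0) (h0 : Vl C a0 b0) (ha0 : a0 ≠ 0)
    (hb0 : -b0 / C.σ b0 = ω ^ (q - 1)) (hKs : Kn C ψ h w 0 s0) (hK0 : Kn C ψ h w a0 b0)
    {a b : F} (hv : Vl C a b) (hne : ¬(a = 0 ∧ b = 0)) : Kn C ψ h w a b := by
  have hq := D.gn.hq
  -- the central elements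
  have hcen : ∀ s, C.σ s = -s → s ≠ 0 → Kn C ψ h w 0 s := by
    intro s hs hs'
    obtain ⟨γ, hγ, hN⟩ := D.gn.norm_surj C (r := s / s0)
      (by rw [map_div₀, hs, hs0, neg_div_neg_eq]) (div_ne_zero hs' hs0')
    have := D.K_conj hγ (Vl.central.2 hs0) hKs
    rwa [hN, mul_zero, div_mul_cancel₀ _ hs0'] at this
  by_cases ha : a = 0
  · subst ha
    exact hcen b (Vl.central.1 hv) fun hb => hne ⟨rfl, hb⟩
  have hb0' : b0 ≠ 0 := h0.b_ne ha0
  have hσb0 : C.σ b0 ≠ 0 := (map_ne_zero C.σ).2 hb0'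
  have hω := D.gn.ne_zero
  -- the first class
  set P : F → Prop := fun e => Kn C ψ h w (a0 * e) (e * C.σ e * b0) with hP
  have hvP : ∀ e, Vl C (a0 * e) (e * C.σ e * b0) := fun e => by
    unfold Vl at h0 ⊢
    simp only [map_mul, C.hσ2]
    linear_combination (e * C.σ e) * h0
  have hstep : ∀ e, e ≠ 0 → P e → P (e * ω) := by
    intro e he hPe
    have hσe : C.σ e ≠ 0 := (map_ne_zero C.σ).2 he
    have hl : ∀ e', e' ≠ 0 → P e' → P (1 / (C.σ e' * C.σ b0)) := by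
      intro e' he' h'
      have hσe' : C.σ e' ≠ 0 := (map_ne_zero C.σ).2 he'
      have := D.K_left (hvP e') (mul_ne_zero (mul_ne_zero he' hσe') hb0') h'
      simp only [map_mul, C.hσ2] at this
      show Kn C ψ h w _ _
      convert this using 1
      · field_simp
      · simp only [map_div₀, map_one, map_mul, C.hσ2]; field_simp
    have h1 := hl _ (one_div_ne_zero (mul_ne_zero hσe hσb0)) (hl e he hPe)
    have h2 := D.K_conj (γ := -ω) (neg_ne_zero.2 hω) (hvP _) h1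
    show Kn C ψ h w _ _
    convert h2 using 1
    · have hb : b0 = -(ω ^ (q - 1) * C.σ b0) := by
        rw [← hb0, div_mul_cancel₀ _ hσb0, neg_neg]
      simp only [map_div₀, map_one, map_mul, C.hσ2, map_neg, D.gn.sigma_omega C]
      have := pow_ne_zero (q - 1) hω
      field_simp
      first | linear_combination hb | linear_combination -hb
    · simp only [map_div₀, map_one, map_mul, C.hσ2, map_neg]
      field_simp
  have hPall : ∀ e, e ≠ 0 → P e := by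
    intro e he
    obtain ⟨j, rfl⟩ := D.gn.gen e he
    induction j with
    | zero => simpa [P] using hK0
    | succ j ih =>
      rw [pow_succ]
      exact hstep _ (pow_ne_zero _ hω) (ih (pow_ne_zero _ hω))
  have base : ∀ a b, Vl C a b → a ≠ 0 → -b / C.σ b = ω ^ (q - 1) → Kn C ψ h w a b := by
    intro a b hv ha hθ
    have hb := hv.b_ne ha
    have hσb : C.σ b ≠ 0 := (map_ne_zero C.σ).2 hb
    rw [← hb0, div_eq_div_iff hσb hσb0] at hθ
    have hr : C.σ (b / b0) = b / b0 := by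
      rw [map_div₀, div_eq_div_iff hσb0 hb0']
      linear_combination hθ
    have hN : a / a0 * C.σ (a / a0) = b / b0 := by
      have h' := h0
      have hv' := hv
      unfold Vl at h' hv'
      have hσa0 : C.σ a0 ≠ 0 := (map_ne_zero C.σ).2 ha0
      rw [map_div₀] at hr ⊢
      rw [div_eq_div_iff hσb0 hb0'] at hr
      field_simp
      linear_combination b0 * hv' - b * h' - hr
    have h1 := hPall (a / a0) (div_ne_zero ha ha0)
    simp only [P, mul_div_cancel₀ _ ha0, hN, div_mul_cancel₀ _ hb0'] at h1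
    exact h1
  have main : ∀ k : ℕ, k ≤ q → ∀ a b, Vl C a b → a ≠ 0 → -b / C.σ b = (ω ^ (q - 1)) ^ k → Kn C ψ h w a b := by
    intro k
    induction k with
    | zero =>
      intro _ a b hv ha hθ
      exfalso
      have hσb : C.σ b ≠ 0 := (map_ne_zero C.σ).2 (hv.b_ne ha)
      rw [pow_zero, div_eq_one_iff_eq hσb] at hθ
      unfold Vl at hv
      rw [← hθ, add_neg_cancel, zero_add, mul_eq_zero] at hv
      exact ha (hv.elim id fun h => (map_eq_zero C.σ).1 h)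
    | succ k ih =>
      intro hk a b hv ha hθ
      rcases Nat.eq_zero_or_pos k with rfl | hk0
      · exact base a b hv ha (by simpa using hθ)
      have hb := hv.b_ne ha
      have hσb : C.σ b ≠ 0 := (map_ne_zero C.σ).2 hb
      have hσa : C.σ a ≠ 0 := (map_ne_zero C.σ).2 ha
      have hσa0 : C.σ a0 ≠ 0 := (map_ne_zero C.σ).2 ha0
      set r := a * C.σ a / (a0 * C.σ a0) with hr
      have hr0 : r ≠ 0 := div_ne_zero (mul_ne_zero ha hσa) (mul_ne_zero ha0 hσa0)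
      have hrσ : C.σ r = r := by simp only [hr, map_div₀, map_mul, C.hσ2]; ring
      set bα := r * b0 with hbα
      have hvα : Vl C a bα := by
        have h' := h0
        unfold Vl at h' ⊢
        rw [hbα, map_mul, hrσ, hr]
        field_simp
        linear_combination (a * C.σ a) * h'
      have hbα0 : bα ≠ 0 := mul_ne_zero hr0 hb0'
      have hσbα : C.σ bα ≠ 0 := (map_ne_zero C.σ).2 hbα0
      have hθα : -bα / C.σ bα = ω ^ (q - 1) := by
        rw [← hb0, hbα, map_mul, hrσ]; field_simp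
      set s := b - bα with hs
      have hsσ : C.σ s = -s := by
        have h1 := hv
        have h2 := hvα
        unfold Vl at h1 h2
        rw [hs, map_sub]
        linear_combination h1 - h2
      have hs0 : s ≠ 0 := by
        intro e
        rw [hs, sub_eq_zero] at e
        rw [e, hθα] at hθ
        have := D.gn.circle_ne_one hk0 (by omega)
        apply this
        rw [pow_succ] at hθ
        exact (mul_eq_right₀ (pow_ne_zero _ hω)).1 hθ.symm
      have hK' : Kn C ψ h w (-a / C.σ bα) (1 / s + 1 / bα) := by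
        refine ih (by omega) _ _ ?_ (div_ne_zero (neg_ne_zero.2 ha) hσbα) ?_
        · have := (Vl.central.2 (show C.σ (1 / s) = -(1 / s) by rw [map_div₀, map_one, hsσ, div_neg])).add
            (hvα.left hbα0)
          simpa using this
        · have e1 : 1 / s + 1 / bα = b / (s * bα) := by
            rw [hs] at hs0 ⊢
            field_simp
            ring
          rw [e1, map_div₀, map_mul, hsσ]
          rw [pow_succ] at hθ
          have e2 : (ω ^ (q - 1)) ^ k = (-b / C.σ b) / (-bα / C.σ bα) := by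
            rw [hθ, hθα, mul_div_cancel_right₀ _ (pow_ne_zero _ hω)]
          rw [e2]
          field_simp
      have := D.K_rule hvα hbα0 hsσ hs0 (hcen s hsσ hs0) (base a bα hvα ha hθα) hK'
      rwa [hs, sub_add_cancel] at this
  have hb := hv.b_ne ha
  have hσb : C.σ b ≠ 0 := (map_ne_zero C.σ).2 hb
  obtain ⟨k, hk, e⟩ := D.gn.unit_circle C (x := -b / C.σ b)
    (by simp only [map_div₀, map_neg, C.hσ2]; field_simp)
  exact main k hk a b hv ha e

/-- With all relations, the matrices determine the elements. -/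
theorem injective [Fintype F] (hall : ∀ a b, Vl C a b → ¬(a = 0 ∧ b = 0) → Kn C ψ h w a b)
    (hgen : Subgroup.closure ({g | ∃ a b, Vl C a b ∧ g = ψ a b} ∪ {h, w}) = ⊤) :
    Function.Injective π := by
  classical
  set N := q ^ 2 - 1 with hN
  have hN0 : 0 < N := by
    have := D.gn.hq
    have : 4 ≤ q ^ 2 := by nlinarith
    omega
  let V := {x : F × F // Vl C x.1 x.2}
  let form : (V × Fin N) ⊕ (V × Fin N × V) → G := fun i => match i with
    | .inl (x, k) => ψ x.1.1 x.1.2 * h ^ (k : ℕ)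
    | .inr (x, k, y) => ψ x.1.1 x.1.2 * h ^ (k : ℕ) * w * ψ y.1.1 y.1.2
  have hred : ∀ k : ℕ, h ^ k = h ^ (k % N) := fun k => pow_eq_pow_mod k D.hpow
  have hbig : (Big C ψ h w) ⊆ Set.range form := by
    rintro _ ⟨x, y, k, hx, hy, rfl⟩
    exact ⟨.inr (⟨x, hx⟩, ⟨k % N, Nat.mod_lt _ hN0⟩, ⟨y, hy⟩), by simp only [form, ← hred]⟩
  have hsmall : ∀ a b (k : ℕ), Vl C a b → ψ a b * h ^ k ∈ Set.range form := fun a b k hv =>
    ⟨.inl (⟨(a, b), hv⟩, ⟨k % N, Nat.mod_lt _ hN0⟩), by simp only [form, ← hred]⟩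
  set S := Set.range form with hS
  have hSfin : S.Finite := Set.finite_range _
  have hmulψ : ∀ a b, Vl C a b → ∀ g ∈ S, ψ a b * g ∈ S := by
    rintro a b hv _ ⟨⟨⟨x, hx⟩, k⟩ | ⟨⟨x, hx⟩, k, ⟨y, hy⟩⟩, rfl⟩
    · show ψ a b * (ψ x.1 x.2 * h ^ (k : ℕ)) ∈ S
      rw [← mul_assoc, D.add hv hx]
      exact hsmall _ _ _ (hv.add hx)
    · exact hbig (D.psi_mul hv ⟨x, y, k, hx, hy, rfl⟩)
  have hmulh : ∀ g ∈ S, h * g ∈ S := by
    rintro _ ⟨⟨⟨x, hx⟩, k⟩ | ⟨⟨x, hx⟩, k, ⟨y, hy⟩⟩, rfl⟩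
    · show h * (ψ x.1 x.2 * h ^ (k : ℕ)) ∈ S
      have e := D.conj_pow 1 hx
      rw [pow_one] at e
      rw [← mul_assoc, e, mul_assoc, ← pow_succ']
      exact hsmall _ _ _ (hx.smul (pow_ne_zero _ D.gn.ne_zero))
    · have := hbig (D.pow_mul_mem 1 ⟨x, y, k, hx, hy, rfl⟩)
      rwa [pow_one] at this
  have hmulw : ∀ g ∈ S, w * g ∈ S := by
    rintro _ ⟨⟨⟨x, hx⟩, k⟩ | ⟨⟨x, hx⟩, k, ⟨y, hy⟩⟩, rfl⟩
    · show w * (ψ x.1 x.2 * h ^ (k : ℕ)) ∈ S
      rw [← mul_assoc]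
      exact hbig (D.mul_pow_mem _ (D.mul_psi hx D.w_mem))
    · show w * (ψ x.1 x.2 * h ^ (k : ℕ) * w * ψ y.1 y.2) ∈ S
      obtain ⟨m, hm⟩ := D.w_pow k
      by_cases h0 : x.1 = 0 ∧ x.2 = 0
      · rw [h0.1, h0.2, D.psi_zero, one_mul, ← mul_assoc, ← mul_assoc, hm]
        have e := D.conj_pow m hy
        rw [e]
        exact hsmall _ _ _ (hy.smul (pow_ne_zero _ D.gn.ne_zero))
      · have := hbig (D.mul_psi hy (D.mul_pow_mem m (hall _ _ hx h0)))
        rw [← hm] at this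
        rwa [show w * ψ x.1 x.2 * w * (w * h ^ (k : ℕ) * w) * ψ y.1 y.2 =
          w * (ψ x.1 x.2 * h ^ (k : ℕ) * w * ψ y.1 y.2) by
            rw [show w * ψ x.1 x.2 * w * (w * h ^ (k : ℕ) * w) * ψ y.1 y.2 =
              w * ψ x.1 x.2 * (w * w) * h ^ (k : ℕ) * w * ψ y.1 y.2 by group, D.wsq, mul_one]
            group] at this
  have hone : (1 : G) ∈ S := by
    have := hsmall 0 0 0 Vl.zero
    rwa [D.psi_zero, pow_zero, mul_one] at this
  have hinv : ∀ a : G, (∀ g ∈ S, a * g ∈ S) → ∀ g ∈ S, a⁻¹ * g ∈ S := by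
    intro a ha g hg
    have : (fun x => a * x) '' S = S := Set.eq_of_subset_of_ncard_le
      (by rintro _ ⟨x, hx, rfl⟩; exact ha x hx)
      (Set.ncard_image_of_injective _ (mul_right_injective a)).ge hSfin
    rw [← this] at hg
    obtain ⟨x, hx, rfl⟩ := hg
    rwa [inv_mul_cancel_left]
  have hall' : ∀ g : G, g ∈ S := by
    intro g
    have hg : g ∈ Subgroup.closure ({g | ∃ a b, Vl C a b ∧ g = ψ a b} ∪ {h, w}) :=
      hgen ▸ Subgroup.mem_top g
    have hmem : ∀ a ∈ ({g | ∃ a b, Vl C a b ∧ g = ψ a b} ∪ {h, w} : Set G), ∀ g ∈ S, a * g ∈ S := by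
      rintro a (⟨a', b', hv, rfl⟩ | rfl | rfl)
      exacts [hmulψ a' b' hv, hmulh, hmulw]
    induction hg using Subgroup.closure_induction_left with
    | one => exact hone
    | mul_left x hx y _ ih => exact hmem x hx y ih
    | inv_mul_cancel x hx y _ ih => exact hinv x (hmem x hx) y ih
  have hpk : ∀ k : Fin N, ω ^ (k : ℕ) ≠ 0 := fun k => pow_ne_zero _ D.gn.ne_zero
  have hfin : ∀ k k' : Fin N, ω ^ (k : ℕ) = ω ^ (k' : ℕ) → k = k' := fun k k' e =>
    Fin.ext (pow_injOn_Iio_orderOf (by rw [D.gn.ord]; exact k.2) (by rw [D.gn.ord]; exact k'.2) e)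
  have hps : ∀ (x : V) (k : Fin N), π (form (.inl (x, k))) = Um C x.1.1 x.1.2 * Tm C (ω ^ (k : ℕ)) := by
    intro x k
    have h1 := D.pi_big x.2 (y := (0, 0)) Vl.zero k
    rw [D.psi_zero, mul_one, bigForm, Um_zero, mul_one, map_mul _ _ w, D.img_w] at h1
    have h2 := congrArg (· * Wm) h1
    simp only [mul_assoc, Wm_sq, mul_one] at h2
    exact h2
  intro g g' hgg
  obtain ⟨i, rfl⟩ := hall' g
  obtain ⟨i', rfl⟩ := hall' g'
  suffices i = i' by rw [this]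
  rcases i with ⟨x, k⟩ | ⟨x, k, y⟩ <;> rcases i' with ⟨x', k'⟩ | ⟨x', k', y'⟩
  · rw [hps, hps] at hgg
    obtain ⟨e1, e2⟩ := small_inj (hpk k) hgg
    rw [Subtype.ext e1, hfin k k' e2]
  · rw [hps] at hgg
    exact absurd (hgg.trans (D.pi_big x'.2 y'.2 k')) (small_ne_big (hpk k'))
  · rw [hps] at hgg
    exact absurd (hgg.symm.trans (D.pi_big x.2 y.2 k)) (small_ne_big (hpk k))
  · obtain ⟨e1, e2, e3⟩ := bigForm_inj (hpk k)
      ((D.pi_big x.2 y.2 k).symm.trans (hgg.trans (D.pi_big x'.2 y'.2 k')))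
    rw [Subtype.ext e1, hfin k k' e2, Subtype.ext e3]

end Bru

end CfsgLib.SUThreePresent
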