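import Cfsg.Agent.Lib.SUThreePresent.Target
import Cfsg.Agent.Lib.SymPresent.Tietze

/-!
`SU_3(q)` on three generators with seventeen relations.
-/

set_option autoImplicit false
set_option linter.unusedSectionVars false
set_option linter.unusedSimpArgs false

namespace CfsgLib.SUThreePresent

open Matrix Polynomial CfsgLib.RegUnipU CfsgLib.SLTwoPresent CfsgLib.SymPresent
open scoped commutatorElement

variable {F : Type*} [Field F] {q : ℕ} {C : Conj F q} {ω : F}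

theorem map_zel {G H : Type*} [Group G] [Group H] (f : G →* H) (u h : G) :
    f (zel u h) = zel (f u) (f h) := by
  simp [zel, commutatorElement_def]

/-- A normal word for an element of the unipotent group. -/
noncomputable def uwd {p : ℕ} {G : Type*} [Group G] (q : ℕ) (u h : G) (P1 P2 P3 : (ZMod p)[X]) : G :=
  word u (h ^ (q + 1)) P1 * (h * word u (h ^ (q + 1)) P2 * h⁻¹) * word (zel u h) h P3

theorem map_uwd {p : ℕ} {G H : Type*} [Group G] [Group H] (f : G →* H) (q : ℕ) (u h : G)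
    (P1 P2 P3 : (ZMod p)[X]) : f (uwd q u h P1 P2 P3) = uwd q (f u) (f h) P1 P2 P3 := by
  simp [uwd, map_word, map_zel]

theorem map_Zsub {G H : Type*} [Group G] [Group H] (f : H →* G) (u h : H) :
    (Zsub u h).map f = Zsub (f u) (f h) := by
  rw [Zsub, MonoidHom.map_closure, ← Set.range_comp]
  congr 2
  ext k
  simp [map_zel]

/-- The relations pull back along injective maps. -/
theorem BorelRels.of_injective {p : ℕ} [Fact p.Prime] [Algebra (ZMod p) (Kfix C)] {G H : Type*}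
    [Group G] [Group H] (f : H →* G) (hf : Function.Injective f) {u h : H}
    (R : BorelRels (p := p) C ω (f u) (f h)) : BorelRels (p := p) C ω u h := by
  have hZ : ∀ {x}, f x ∈ Zsub (f u) (f h) → x ∈ Zsub u h := fun {x} hx => by
    rw [← map_Zsub] at hx
    obtain ⟨y, hy, e⟩ := Subgroup.mem_map.1 hx
    rwa [← hf e]
  have hC : ∀ {x y}, Commute (f x) (f y) → Commute x y := fun {x y} hxy =>
    hf (by rw [map_mul, map_mul]; exact hxy.eq)
  refine ⟨hf ?_, fun k => hC ?_, hf ?_, fun k => hC ?_, hZ ?_, hZ ?_, ?_, hZ ?_, ?_⟩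
  · simpa [map_zel] using R.hz_p
  · simpa [map_zel] using R.hz_comm k
  · simpa [map_zel, map_word] using R.hz_min
  · simpa [map_zel] using R.hcen k
  · simpa using R.hu_p
  · simpa [commutatorElement_def] using R.hu_comm
  · rcases R.hu_spread with ⟨c, hc⟩ | hc
    · exact Or.inl ⟨c, hZ (by simpa using hc)⟩
    · exact Or.inr (hZ (by simpa using hc))
  · simpa [map_word] using R.hu_min
  · obtain ⟨Pa, Pb, hPa, hPb, hQ⟩ := R.hQ
    exact ⟨Pa, Pb, hPa, hPb, hZ (by simpa [map_word] using hQ)⟩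

/-- The normal words lie among the parametrised elements. -/
theorem Bru.uwd_mem {p : ℕ} {G : Type*} [Group G] {π : G →* Matrix (Fin 3) (Fin 3) F} {ψ : F → F → G}
    {h w : G} (D : Bru C ω π ψ h w) {u : G} {a0 b0 : F} (h0 : Vl C a0 b0) (hu : ψ a0 b0 = u)
    (P1 P2 P3 : (ZMod p)[X]) : ∃ a b, Vl C a b ∧ uwd q u h P1 P2 P3 = ψ a b := by
  let S : Subgroup G :=
    { carrier := {x | ∃ a b, Vl C a b ∧ x = ψ a b}
      one_mem' := ⟨0, 0, Vl.zero, D.psi_zero.symm⟩
      mul_mem' := fun {x y} ⟨a, b, hv, e⟩ ⟨c, d, hv', e'⟩ =>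
        ⟨_, _, hv.add hv', by rw [e, e', D.add hv hv']⟩
      inv_mem' := fun {x} ⟨a, b, hv, e⟩ => ⟨_, _, hv.inv, by rw [e, D.psi_inv hv]⟩ }
  have huS : u ∈ S := ⟨a0, b0, h0, hu.symm⟩
  have hS : ∀ (k : ℕ), ∀ x ∈ S, h ^ k * x * (h ^ k)⁻¹ ∈ S := fun k x ⟨a, b, hv, e⟩ =>
    ⟨_, _, hv.smul (pow_ne_zero k D.gn.ne_zero), by rw [e, D.conj_pow k hv, mul_inv_cancel_right]⟩
  have hh : ∀ x ∈ S, h * x * h⁻¹ ∈ S := fun x hx => by simpa using hS 1 x hx
  have hw : ∀ Q : (ZMod p)[X], word u (h ^ (q + 1)) Q ∈ S := word_mem fun i => by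
    rw [← pow_mul]; exact hS _ u huS
  have hzS : zel u h ∈ S := by
    rw [zel, commutatorElement_def]
    exact mul_mem (mul_mem (mul_mem huS (hh u huS)) (inv_mem huS)) (inv_mem (hh u huS))
  exact mul_mem (mul_mem (hw P1) (hh _ (hw P2))) (word_mem (fun i => hS i _ hzS) P3)

variable [Fintype F]

/-- Few relations make the unipotent generator commute with the central class. -/
theorem exists_cen (hF : Fintype.card F = q ^ 2) {p : ℕ} [Fact p.Prime] [CharP F p]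
    [Algebra (ZMod p) F] [Algebra (ZMod p) (Kfix C)] (O : Gen F q ω) (hq3 : 3 ≤ q)
    {G : Type*} [Group G] {π : G →* Matrix (Fin 3) (Fin 3) F} (hinj : Function.Injective π)
    {u h w : G} {a0 b0 : F} (h0 : Vl C a0 b0) (ha0 : a0 ≠ 0) (hu : π u = Um C a0 b0)
    (hh : π h = Tm C ω) :
    ∃ L : List (FreeGroup (Fin 3)), L.length ≤ 3 ∧ (∀ r ∈ L, FreeGroup.lift ![u, h, w] r = 1) ∧
      ∀ (H : Type) [Group H] (f : FreeGroup (Fin 3) →* H), (∀ r ∈ L, f r = 1) →
        ∀ x y : H, f (FreeGroup.of 0) = x → f (FreeGroup.of 1) = y → y ^ (q ^ 2 - 1) = 1 →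
        zel x y ^ p = 1 → (∀ k : ℕ, Commute (zel x y) (y ^ k * zel x y * (y ^ k)⁻¹)) →
        word (zel x y) y (minpoly (ZMod p) (xK C ω)) = 1 →
        ∀ k : ℕ, Commute x (y ^ k * zel x y * (y ^ k)⁻¹) := by
  classical
  have hparam : ∀ {H : Type} [Group H] {y z : H}, z ^ p = 1 →
      (∀ k : ℕ, Commute z (y ^ k * z * (y ^ k)⁻¹)) → word z y (minpoly (ZMod p) (xK C ω)) = 1 →
      ∃ ψ : Kfix C → H, (∀ k : ℕ, y ^ k * z * (y ^ k)⁻¹ = ψ (xK C ω ^ k)) ∧
        ∀ Q : (ZMod p)[X], word z y Q = ψ (aeval (xK C ω) Q) := by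
    intro H _ y z hzp hzc hzm
    obtain ⟨ψ, -, h1, hψh, -, hψw⟩ := exists_param z y y (xK C ω) (xK C ω) hzp hzc (Commute.refl y)
      (aeval_surj O) X (aeval_X _) (word_X z y).symm (Or.inl hzm)
    refine ⟨ψ, fun k => ?_, hψw⟩
    induction k with
    | zero => simp [h1]
    | succ k ih =>
      rw [show y ^ (k + 1) * z * (y ^ (k + 1))⁻¹ = y * (y ^ k * z * (y ^ k)⁻¹) * y⁻¹ by
        rw [pow_succ']; group, ih, hψh, pow_succ']
  have hcz : ∀ k : ℕ, Commute u (h ^ k * zel u h * (h ^ k)⁻¹) := fun k => by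
    refine hinj ?_
    have e := pi_conj (pow_ne_zero k O.ne_zero) (pi_pow hh k) (pi_zel O h0 hu hh)
    generalize h ^ k * zel u h * (h ^ k)⁻¹ = y at e ⊢
    rw [map_mul, map_mul, e, hu, Um_mul, Um_mul]
    simp [add_comm]
  set U := FreeGroup.of (0 : Fin 3)
  set T := FreeGroup.of (1 : Fin 3)
  have hLU : FreeGroup.lift ![u, h, w] U = u := by simp [U]
  have hLT : FreeGroup.lift ![u, h, w] T = h := by simp [T]
  let cm : ℕ → FreeGroup (Fin 3) := fun i => ⁅U, T ^ i * zel U T * (T ^ i)⁻¹⁆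
  have hcm : ∀ i, FreeGroup.lift ![u, h, w] (cm i) = 1 := fun i => by
    simp only [cm, map_commutatorElement, map_mul, map_inv, map_pow, map_zel, hLU, hLT]
    exact commutatorElement_eq_one_iff_commute.2 (hcz i)
  have hcm' : ∀ {H : Type} [Group H] (f : FreeGroup (Fin 3) →* H) {x y : H}, f U = x → f T = y →
      ∀ i, f (cm i) = 1 → Commute x (y ^ i * zel x y * (y ^ i)⁻¹) := by
    intro H _ f x y hx hy i hi
    simp only [cm, map_commutatorElement, map_mul, map_inv, map_pow, map_zel, hx, hy] at hi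
    exact commutatorElement_eq_one_iff_commute.1 hi
  by_cases h8 : q ≤ 8
  · refine ⟨[cm 0, cm 1, cm 2], le_rfl, fun r hr => ?_, fun H _ f hf x y hx hy _ hzp hzc hzm => ?_⟩
    · simp only [List.mem_cons, List.not_mem_nil, or_false] at hr
      rcases hr with rfl | rfl | rfl <;> exact hcm _
    obtain ⟨ψ, -, hψw⟩ := hparam hzp hzc hzm
    refine cen_of_deg (O.deg_le C h8) (Algebra.IsIntegral.isIntegral _)
      (fun Q R e => by rw [hψw, hψw, e]) fun i hi => hcm' f hx hy i ?_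
    interval_cases i <;> exact hf _ (by simp)
  · have hsur := O.mu_surj C hF (p := p) (by omega) (by omega) (by omega)
    obtain ⟨Qμ, hQμ⟩ := hsur (ω ^ 2 / C.σ ω)
    have hA : HasA π C ((word u (h ^ (q - 1)) Qμ)⁻¹ * (h * u * h⁻¹)) 0 := by
      refine ((hasA_word (pow_ne_zero _ O.ne_zero) (pi_pow hh _) ⟨b0, h0, hu⟩ Qμ).inv.mul
        (HasA.conj O.ne_zero hh (a := a0) ⟨b0, h0, hu⟩)).eq ?_
      rw [lam_e O, hQμ]; ring
    obtain ⟨s, hs, hπs⟩ := hA.central
    obtain ⟨Qr, hQr⟩ := exists_zword (p := p) O (by omega) h0 ha0 hu hh hs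
    have hrel := hinj (hπs.trans hQr.symm)
    rw [inv_mul_eq_iff_eq_mul] at hrel
    refine ⟨[cm 0, T * U * T⁻¹ * (word U (T ^ (q - 1)) Qμ * word (zel U T) T Qr)⁻¹], by simp,
      fun r hr => ?_, fun H _ f hf x y hx hy hN hzp hzc hzm => ?_⟩
    · simp only [List.mem_cons, List.not_mem_nil, or_false] at hr
      rcases hr with rfl | rfl
      · exact hcm 0
      · simp only [map_mul, map_inv, map_word, map_pow, map_zel, hLU, hLT]
        rw [mul_inv_eq_one]; exact hrel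
    obtain ⟨ψ, hψk, -⟩ := hparam hzp hzc hzm
    have hz : Commute x (zel x y) := by
      simpa using hcm' f hx hy 0 (hf _ (by simp))
    have hr := hf (T * U * T⁻¹ * (word U (T ^ (q - 1)) Qμ * word (zel U T) T Qr)⁻¹) (by simp)
    simp only [map_mul, map_inv, map_word, map_pow, map_zel, hx, hy, mul_inv_eq_one] at hr
    refine cen_of_word (e := q - 1) (N := q ^ 2 - 1) ?_ hN hz ?_ hzc hr
    · have : 9 ≤ q ^ 2 := by nlinarith
      omega
    · have h1 := hψk (q - 1)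
      rw [O.x_pow C, ← pow_zero (xK C ω), ← hψk 0] at h1
      exact commute_of_conj (by simpa using h1)

/-- Three generators and seventeen relations. -/
theorem su_three (hF : Fintype.card F = q ^ 2) (hq3 : 3 ≤ q) :
    ∃ v : Fin 3 → ↥(Cfsg.SU 3 F q), HasPres v 17 := by
  classical
  obtain ⟨C, hne⟩ := exists_conjugation hF
  obtain ⟨R⟩ := exists_frame hF C hne
  obtain ⟨g, hg⟩ := IsCyclic.exists_generator (α := Fˣ)
  set ω : F := (g : F) with hωd
  have O : Gen F q ω :=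
    ⟨by omega, by rw [orderOf_units, orderOf_eq_card_of_forall_mem_zpowers hg, Nat.card_units,
      Nat.card_eq_fintype_card, hF], fun t ht => by
      obtain ⟨j, hj : g ^ j = Units.mk0 t ht⟩ :=
        (mem_powers_iff_mem_zpowers (x := g)).2 (hg (Units.mk0 t ht))
      exact ⟨j, by rw [hωd, ← Units.val_pow_eq_pow_val, hj, Units.val_mk0]⟩⟩
  obtain ⟨p, hchar⟩ := CharP.exists F
  haveI : Fact p.Prime := ⟨CharP.char_is_prime F p⟩
  haveI : CharP (Kfix C) p := ((Kfix C).subtype.charP_iff (Kfix C).subtype.injective p).2 hchar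
  letI : Algebra (ZMod p) F := ZMod.algebra F p
  letI : Algebra (ZMod p) (Kfix C) := ZMod.algebra _ p
  have hω := O.ne_zero
  have hσω : C.σ ω ≠ 0 := (map_ne_zero C.σ).2 hω
  -- the seed
  set ξ := ω ^ 2 / C.σ ω - C.σ (ω ^ 2 / C.σ ω) with hξ
  have hξσ : C.σ ξ = -ξ := by rw [hξ, map_sub, C.hσ2]; ring
  have hξ0 : ξ ≠ 0 := O.lam_ne C (by omega)
  set b0 := ξ / ω with hb0
  have hb00 : b0 ≠ 0 := div_ne_zero hξ0 hω
  have hσb0 : C.σ b0 = -ξ / C.σ ω := by rw [hb0, map_div₀, hξσ]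
  have hθ : -b0 / C.σ b0 = ω ^ (q - 1) := by
    rw [hσb0, hb0, O.sigma_omega C]
    field_simp
  have hne1 : b0 + C.σ b0 ≠ 0 := by
    intro e
    rw [add_eq_zero_iff_eq_neg] at e
    rw [show -b0 = C.σ b0 by linear_combination -e, div_self ((map_ne_zero C.σ).2 hb00)] at hθ
    exact O.circle_ne_one (k := 1) one_pos (by omega) (by rw [pow_one, ← hθ])
  obtain ⟨a0, ha0, ha0N⟩ := O.norm_surj C (r := -(b0 + C.σ b0))
    (by rw [map_neg, map_add, C.hσ2, add_comm]) (neg_ne_zero.2 hne1)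
  have h0 : Vl C a0 b0 := by
    show b0 + C.σ b0 + a0 * C.σ a0 = 0
    rw [ha0N, add_neg_cancel]
  set s0 := s0Of C ω a0 with hs0d
  have hs0 : s0 ≠ 0 := mul_ne_zero (mul_ne_zero ha0 ((map_ne_zero C.σ).2 ha0)) hξ0
  have hs0σ : C.σ s0 = -s0 := by
    rw [hs0d, s0Of, ← hξ, map_mul, map_mul, C.hσ2, hξσ]; ring
  -- the elements
  obtain ⟨u0, hu0⟩ := exists_um R h0
  obtain ⟨t0, ht0⟩ := exists_tt R hω
  obtain ⟨w0, hw0⟩ := exists_ww R
  have hinj := back_inj R
  have hz0 := pi_zel O h0 hu0 ht0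
  have hzp : ∀ {s t : F}, Um C 0 s * Um C 0 t = Um C 0 (s + t) := fun {s t} => by
    rw [Um_mul]; simp
  have hzconj : ∀ k : ℕ, back R (t0 ^ k * zel u0 t0 * (t0 ^ k)⁻¹) =
      Um C 0 (((xK C ω ^ k : Kfix C) : F) * s0) := fun k => by
    rw [pi_conj (pow_ne_zero k hω) (pi_pow ht0 k) hz0, mul_zero, map_pow, ← mul_pow,
      SubmonoidClass.coe_pow]
    rfl
  -- the spreading exponents
  obtain ⟨c, j, hcj, hc⟩ : ∃ c j : ℕ, (j = 1 ∨ j = 0 ∧ c = 2) ∧
      xK C ω ^ c = 1 + (j : Kfix C) * xK C ω := by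
    by_cases hx1 : (1 : Kfix C) + xK C ω = 0
    · refine ⟨2, 0, Or.inr ⟨rfl, rfl⟩, ?_⟩
      rw [eq_neg_of_add_eq_zero_right hx1]; simp
    · obtain ⟨c, hc⟩ := O.x_gen C _ hx1
      exact ⟨c, 1, Or.inl rfl, by rw [← hc, Nat.cast_one, one_mul]⟩
  -- central corrections
  have hzw : ∀ {e : ↥(Cfsg.SU 3 F q)}, HasA (back R) C e 0 →
      ∃ Q : (ZMod p)[X], e = word (zel u0 t0) t0 Q := fun {e} he => by
    obtain ⟨s, hs, hπ⟩ := he.central
    obtain ⟨Q, hQ⟩ := exists_zword (p := p) O (by omega) h0 ha0 hu0 ht0 hs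
    exact ⟨Q, hinj (hπ.trans hQ.symm)⟩
  have hU0 : HasA (back R) C u0 a0 := ⟨b0, h0, hu0⟩
  set g0 := t0 ^ (q + 1) with hg0
  have hgpi : back R g0 = Tm C (ω ^ (q + 1)) := pi_pow ht0 _
  have hgne := pow_ne_zero (q + 1) hω
  have hgw : ∀ {e : ↥(Cfsg.SU 3 F q)} {a : F}, HasA (back R) C e a → ∀ Q : (ZMod p)[X],
      HasA (back R) C (word e g0 Q) (((aeval (xK C ω) Q : Kfix C) : F) * a) := fun {e a} he Q =>
    (hasA_word hgne hgpi he Q).eq (by rw [coe_aeval, lam_g O])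
  have hgc : HasA (back R) C (g0 * u0 * g0⁻¹) ((xK C ω : F) * a0) :=
    (hU0.conj hgne hgpi).eq (by rw [lam_g O])
  have hgcc : HasA (back R) C (g0 ^ c * u0 * (g0 ^ c)⁻¹) (((xK C ω ^ c : Kfix C) : F) * a0) :=
    (hU0.conj (pow_ne_zero c hgne) (pi_pow hgpi c)).eq (by
      rw [map_pow, ← pow_mul, mul_comm c 2, pow_mul, ← div_pow, lam_g O, SubmonoidClass.coe_pow])
  obtain ⟨Q1, hQ1⟩ := hzw ((hU0.pow p).eq (by rw [CharP.cast_eq_zero, zero_mul]))
  obtain ⟨Q2, hQ2⟩ := hzw (e := ⁅u0, g0 * u0 * g0⁻¹⁆) ((((hU0.mul hgc).mul hU0.inv).mul hgc.inv).eq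
    (by ring))
  obtain ⟨Q3, hQ3⟩ := hzw (((hU0.mul (hgc.pow j)).inv.mul hgcc).eq (by
    rw [hc, Subfield.coe_add, Subfield.coe_one, Subfield.coe_mul, SubringClass.coe_natCast]; ring))
  obtain ⟨Q4, hQ4⟩ := hzw ((hgw hU0 (minpoly (ZMod p) (xK C ω))).eq (by
    rw [minpoly.aeval, Subfield.coe_zero, zero_mul]))
  obtain ⟨Pa, hPa⟩ := aeval_surj (p := p) O (-xK C ω)
  obtain ⟨Pb, hPb⟩ := aeval_surj (p := p) O (betaK C ω)
  obtain ⟨Q5, hQ5⟩ := hzw (((hgw hU0 Pa).mul (hgw (hU0.conj hω ht0) Pb)).inv.mul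
    ((hU0.conj hω ht0).conj hω ht0) |>.eq (by
      rw [hPa, hPb]
      show -(-(ω * C.σ ω) * a0 + (ω ^ 2 / C.σ ω + C.σ (ω ^ 2 / C.σ ω)) * (ω ^ 2 / C.σ ω * a0)) +
        ω ^ 2 / C.σ ω * (ω ^ 2 / C.σ ω * a0) = 0
      simp only [map_div₀, map_pow, C.hσ2]
      field_simp
      ring))
  -- the seeds
  have hseed : ∀ {e : ↥(Cfsg.SU 3 F q)} {a b : F}, Vl C a b → b ≠ 0 → back R e = Um C a b →
      ∃ (k : ℕ) (P1 P2 P3 P1' P2' P3' : (ZMod p)[X]),
        w0 * e * w0 = uwd q u0 t0 P1 P2 P3 * t0 ^ k * w0 * uwd q u0 t0 P1' P2' P3' := by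
    intro e a b hv hb he
    obtain ⟨k, hk⟩ := O.gen (C.σ b)⁻¹ (inv_ne_zero ((map_ne_zero C.σ).2 hb))
    obtain ⟨P1, P2, P3, hP⟩ := exists_uword (p := p) O (by omega) h0 ha0 hu0 ht0 (hv.left hb)
    obtain ⟨P1', P2', P3', hP'⟩ := exists_uword (p := p) O (by omega) h0 ha0 hu0 ht0 (hv.right hb)
    refine ⟨k, P1, P2, P3, P1', P2', P3', hinj ?_⟩
    rw [map_mul, map_mul, map_mul, map_mul, map_mul, hw0, he, bruhat_id hv hb, pi_pow ht0, hk, uwd, hP,
      uwd, hP']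
  have hb0' : b0 ≠ 0 := hb00
  obtain ⟨ks, A1, A2, A3, B1, B2, B3, hSs⟩ := hseed (Vl.central.2 hs0σ) hs0 hz0
  obtain ⟨ku, E1, E2, E3, H1, H2, H3, hSu⟩ := hseed h0 hb0' hu0
  obtain ⟨Lc, hLc, hLcT, hLcH⟩ := exists_cen hF (p := p) O hq3 hinj (w := w0) h0 ha0 hu0 ht0
  -- the relations
  set U := FreeGroup.of (0 : Fin 3)
  set T := FreeGroup.of (1 : Fin 3)
  set W := FreeGroup.of (2 : Fin 3)
  set Z := zel U T with hZd
  set L : List (FreeGroup (Fin 3)) :=
    [Z ^ p, Z * (T * Z * T⁻¹) * (T * Z * T⁻¹ * Z)⁻¹, T ^ c * Z * (T ^ c)⁻¹ * (Z * (T * Z * T⁻¹) ^ j)⁻¹,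
      word Z T (minpoly (ZMod p) (xK C ω)), U ^ p * (word Z T Q1)⁻¹,
      ⁅U, T ^ (q + 1) * U * (T ^ (q + 1))⁻¹⁆ * (word Z T Q2)⁻¹,
      (U * (T ^ (q + 1) * U * (T ^ (q + 1))⁻¹) ^ j)⁻¹ *
        ((T ^ (q + 1)) ^ c * U * ((T ^ (q + 1)) ^ c)⁻¹) * (word Z T Q3)⁻¹,
      word U (T ^ (q + 1)) (minpoly (ZMod p) (xK C ω)) * (word Z T Q4)⁻¹,
      (word U (T ^ (q + 1)) Pa * word (T * U * T⁻¹) (T ^ (q + 1)) Pb)⁻¹ *
        (T * (T * U * T⁻¹) * T⁻¹) * (word Z T Q5)⁻¹,
      T ^ (q ^ 2 - 1), W * W, W * T * W * T ^ q,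
      W * Z * W * (uwd q U T A1 A2 A3 * T ^ ks * W * uwd q U T B1 B2 B3)⁻¹,
      W * U * W * (uwd q U T E1 E2 E3 * T ^ ku * W * uwd q U T H1 H2 H3)⁻¹] ++ Lc with hL
  have hlen : L.length ≤ 17 := by
    rw [hL, List.length_append]; simp only [List.length_cons, List.length_nil]; omega
  set v : Fin 3 → ↥(Cfsg.SU 3 F q) := ![u0, t0, w0]
  have hvU : FreeGroup.lift v U = u0 := by simp [v, U]
  have hvT : FreeGroup.lift v T = t0 := by simp [v, T]
  have hvW : FreeGroup.lift v W = w0 := by simp [v, W]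
  have hT : ∀ r ∈ (↑L.toFinset : Set (FreeGroup (Fin 3))), FreeGroup.lift v r = 1 := by
    intro r hr
    rw [List.coe_toFinset, Set.mem_setOf_eq, hL, List.mem_append] at hr
    rcases hr with hr | hr
    swap
    · exact hLcT r hr
    simp only [List.mem_cons, List.not_mem_nil, or_false] at hr
    rcases hr with rfl | rfl | rfl | rfl | rfl | rfl | rfl | rfl | rfl | rfl | rfl | rfl | rfl | rfl <;>
      simp only [hZd, map_mul, map_inv, map_pow, map_word, map_zel, map_commutatorElement, map_uwd, hvU,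
        hvT, hvW, mul_inv_eq_one]
    · refine hinj ?_
      rw [map_one, ← Um_zero (C := C)]
      have : ∀ n : ℕ, back R (zel u0 t0 ^ n) = Um C 0 ((n : F) * s0) := fun n => by
        induction n with
        | zero => simp [Um_zero]
        | succ n ih => rw [pow_succ, map_mul, ih, hz0, hzp, Nat.cast_succ, add_mul, one_mul]
      rw [this, CharP.cast_eq_zero, zero_mul]
    · refine hinj ?_
      have := hzconj 1
      rw [pow_one] at this
      generalize t0 * zel u0 t0 * t0⁻¹ = y at this ⊢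
      rw [map_mul, map_mul]
      rw [this, hz0, hzp, hzp, add_comm]
    · refine hinj ?_
      have h1 := hzconj 1
      rw [pow_one] at h1
      have hp' : ∀ {y : ↥(Cfsg.SU 3 F q)} {t : F}, back R y = Um C 0 t → ∀ n : ℕ,
          back R (y ^ n) = Um C 0 (n * t) := fun {y t} hy n => by
        induction n with
        | zero => simp [Um_zero]
        | succ n ih => rw [pow_succ, map_mul, ih, hy, hzp, Nat.cast_succ, add_mul, one_mul]
      rw [hzconj, map_mul, hp' h1, hz0, hzp, hc, Subfield.coe_add, Subfield.coe_one, Subfield.coe_mul,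
        SubringClass.coe_natCast, pow_one, ← hs0d]
      congr 1
      ring
    · refine hinj ?_
      rw [pi_zword (p := p) O h0 hu0 ht0, minpoly.aeval, Subfield.coe_zero, zero_mul, Um_zero, map_one]
    · exact hQ1
    · exact hQ2
    · exact hQ3
    · exact hQ4
    · exact hQ5
    · exact hinj (by rw [pi_pow ht0, ← O.ord, pow_orderOf_eq_one, Tm_one, map_one])
    · exact hinj (by rw [map_mul, hw0, Wm_sq, map_one])
    · refine hinj ?_
      rw [map_mul, map_mul, map_mul, hw0, ht0, pi_pow ht0, Wm_Tm, mul_assoc (Tm C _) Wm Wm, Wm_sq,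
        mul_one, Tm_mul, ← C.hσ, inv_mul_cancel₀ hσω, Tm_one, map_one]
    · exact hSs
    · exact hSu
  -- the presented group
  set rels : Set (FreeGroup (Fin 3)) := ↑L.toFinset with hrels
  obtain ⟨φ, hφof⟩ : ∃ φ : PresentedGroup rels →* ↥(Cfsg.SU 3 F q), ∀ i, φ (PresentedGroup.of i) = v i :=
    ⟨PresentedGroup.toGroup hT, fun i => PresentedGroup.toGroup.of hT⟩
  set m := PresentedGroup.mk rels
  have hm : ∀ r ∈ L, m r = 1 := fun r hr => PresentedGroup.one_of_mem (by simpa [rels] using hr)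
  have hm' : ∀ {a b : FreeGroup (Fin 3)}, a * b⁻¹ ∈ L → m a = m b := fun {a b} hab => by
    have := hm _ hab
    rwa [map_mul, map_inv, mul_inv_eq_one] at this
  have hφm : ∀ x, φ (m x) = FreeGroup.lift v x := fun x => by
    have : φ.comp m = FreeGroup.lift v := FreeGroup.ext_hom _ _ fun i => by
      simp only [MonoidHom.comp_apply, FreeGroup.lift_apply_of]
      exact hφof i
    exact DFunLike.congr_fun this x
  set uP := m U with huP
  set tP := m T with htP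
  set wP := m W with hwP
  set π := (back R).comp φ with hπ
  have hπu : π uP = Um C a0 b0 := by rw [hπ, MonoidHom.comp_apply, huP, hφm, hvU, hu0]
  have hπt : π tP = Tm C ω := by rw [hπ, MonoidHom.comp_apply, htP, hφm, hvT, ht0]
  have hπw : π wP = Wm := by rw [hπ, MonoidHom.comp_apply, hwP, hφm, hvW, hw0]
  have hN : tP ^ (q ^ 2 - 1) = 1 := by rw [htP, ← map_pow]; exact hm _ (by simp [hL])
  set zP := zel uP tP with hzP
  have hmZ : m Z = zP := map_zel m U T
  have hmw : ∀ Q : (ZMod p)[X], m (word Z T Q) = word zP tP Q := fun Q => by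
    rw [map_word, hmZ]
  have hzp' : zP ^ p = 1 := by rw [← hmZ, ← map_pow]; exact hm _ (by simp [hL])
  have hzc : ∀ k : ℕ, Commute zP (tP ^ k * zP * (tP ^ k)⁻¹) := by
    have h1 := hm' (a := Z * (T * Z * T⁻¹)) (b := T * Z * T⁻¹ * Z) (by simp [hL])
    have h2 := hm' (a := T ^ c * Z * (T ^ c)⁻¹) (b := Z * (T * Z * T⁻¹) ^ j) (by simp [hL])
    simp only [map_mul, map_inv, map_pow, hmZ, ← htP] at h1 h2
    rcases hcj with rfl | ⟨rfl, rfl⟩
    · exact commute_trinomial (i := 1) (j := 1) (c := tP ^ c) hzp' h1 (Commute.pow_self tP c)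
        (Nat.Prime.not_dvd_one (Fact.out : p.Prime)) (Nat.Prime.not_dvd_one (Fact.out : p.Prime))
        (by rw [pow_one]; exact h2)
    · refine commute_quadratic (i := 1) (j := 0) h1 ?_
      rw [pow_one, ← h2, pow_two, _root_.mul_inv_rev]
      group
  have hzm : word zP tP (minpoly (ZMod p) (xK C ω)) = 1 := by
    rw [← hmw]; exact hm _ (by simp [hL])
  have hcen := hLcH _ m (fun r hr => hm r (by rw [hL]; exact List.mem_append_right _ hr)) uP tP rfl rfl
    hN hzp' hzc hzm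
  have hmemZ : ∀ Q : (ZMod p)[X], word zP tP Q ∈ Zsub uP tP := word_mem fun i => by
    refine Subgroup.subset_closure ?_
    exact ⟨i, rfl⟩
  have hval : ∀ {a : FreeGroup (Fin 3)} (Q : (ZMod p)[X]), a * (word Z T Q)⁻¹ ∈ L →
      m a ∈ Zsub uP tP := fun {a} Q ha => by rw [hm' ha, hmw]; exact hmemZ Q
  have BR : BorelRels (p := p) C ω uP tP := by
    refine ⟨hzp', hzc, hzm, hcen, ?_, ?_, ?_, ?_, ⟨Pa, Pb, hPa, hPb, ?_⟩⟩
    · simpa [← huP] using hval (a := U ^ p) Q1 (by simp [hL])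
    · simpa [← huP, ← htP, map_commutatorElement] using
        hval (a := ⁅U, T ^ (q + 1) * U * (T ^ (q + 1))⁻¹⁆) Q2 (by simp [hL])
    · have h3 := hval (a := (U * (T ^ (q + 1) * U * (T ^ (q + 1))⁻¹) ^ j)⁻¹ *
        ((T ^ (q + 1)) ^ c * U * ((T ^ (q + 1)) ^ c)⁻¹)) Q3 (by simp [hL])
      rcases hcj with rfl | ⟨rfl, rfl⟩
      · exact Or.inl ⟨c, by simpa [← huP, ← htP] using h3⟩
      · refine Or.inr ?_
        simpa [← huP, ← htP, pow_two, mul_assoc] using h3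
    · simpa [← huP, ← htP, map_word] using
        hval (a := word U (T ^ (q + 1)) (minpoly (ZMod p) (xK C ω))) Q4 (by simp [hL])
    · simpa [← huP, ← htP, map_word] using
        hval (a := (word U (T ^ (q + 1)) Pa * word (T * U * T⁻¹) (T ^ (q + 1)) Pb)⁻¹ *
          (T * (T * U * T⁻¹) * T⁻¹)) Q5 (by simp [hL])
  let B : Subgroup (PresentedGroup rels) := Subgroup.closure {uP, tP}
  let uB : B := ⟨uP, Subgroup.subset_closure (Set.mem_insert _ _)⟩
  let tB : B := ⟨tP, Subgroup.subset_closure (Set.mem_insert_of_mem _ rfl)⟩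
  have hgenB : Subgroup.closure ({uB, tB} : Set B) = ⊤ := by
    rw [← Subgroup.closure_closure_coe_preimage (k := ({uP, tP} : Set (PresentedGroup rels)))]
    congr 1
    ext x
    simp [uB, tB, Subtype.ext_iff, B]
  have hNB : tB ^ (q ^ 2 - 1) = 1 := Subtype.ext (by rw [Subgroup.coe_pow]; exact hN)
  obtain ⟨ψB, hadd, himg, hconj, hψu, hψz⟩ := exists_psi O (by omega) (π.comp B.subtype) hgenB h0 ha0
    hπu hπt hNB (BorelRels.of_injective B.subtype Subtype.val_injective BR)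
  set ψ : F → F → PresentedGroup rels := fun a b => (ψB a b : PresentedGroup rels) with hψ
  have D : Bru C ω π ψ tP wP := by
    refine ⟨O, fun hv hv' => ?_, fun hv => himg hv, hπt, hπw, fun hv => ?_, ?_, ?_, hN⟩
    · exact congrArg Subtype.val (hadd hv hv')
    · exact congrArg Subtype.val (hconj hv)
    · rw [hwP, ← map_mul]; exact hm _ (by simp [hL])
    · rw [eq_inv_iff_mul_eq_one, hwP, htP, ← map_pow, ← map_mul, ← map_mul, ← map_mul]
      exact hm _ (by simp [hL])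
  have hψ0 : ψ a0 b0 = uP := congrArg Subtype.val hψu
  have hψs : ψ 0 s0 = zP := by
    show (ψB 0 (s0Of C ω a0) : PresentedGroup rels) = _
    rw [hψz]
    exact map_zel B.subtype uB tB
  have hK : ∀ {a b : F} {e : FreeGroup (Fin 3)} {k : ℕ} {P1 P2 P3 P1' P2' P3' : (ZMod p)[X]},
      ψ a b = m e → W * e * W * (uwd q U T P1 P2 P3 * T ^ k * W * uwd q U T P1' P2' P3')⁻¹ ∈ L →
      Kn C ψ tP wP a b := by
    intro a b e k P1 P2 P3 P1' P2' P3' he hmem
    have h1 := hm' hmem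
    simp only [map_mul, map_pow, map_uwd, ← huP, ← htP, ← hwP, ← he] at h1
    obtain ⟨xa, xb, hxv, hxe⟩ := D.uwd_mem h0 hψ0 P1 P2 P3
    obtain ⟨ya, yb, hyv, hye⟩ := D.uwd_mem h0 hψ0 P1' P2' P3'
    exact ⟨(xa, xb), (ya, yb), k, hxv, hyv, by rw [h1, hxe, hye]⟩
  have hKs : Kn C ψ tP wP 0 s0 := hK (k := ks) (e := Z) (P1 := A1) (P2 := A2) (P3 := A3)
    (P1' := B1) (P2' := B2) (P3' := B3) (hψs.trans hmZ.symm) (by simp [hL])
  have hKu : Kn C ψ tP wP a0 b0 := hK (k := ku) (e := U) (P1 := E1) (P2 := E2) (P3 := E3)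
    (P1' := H1) (P2' := H2) (P3' := H3) (hψ0.trans huP) (by simp [hL])
  have hall := fun a b (hv : Vl C a b) => D.K_all hs0σ hs0 h0 ha0 hθ hKs hKu hv
  have hgenP : Subgroup.closure ({g | ∃ a b, Vl C a b ∧ g = ψ a b} ∪ {tP, wP}) = ⊤ := by
    rw [eq_top_iff, ← PresentedGroup.closure_range_of, Subgroup.closure_le]
    rintro _ ⟨i, rfl⟩
    refine Subgroup.subset_closure ?_
    fin_cases i
    · exact Or.inl ⟨a0, b0, h0, hψ0.symm⟩
    · exact Or.inr (Or.inl rfl)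
    · exact Or.inr (Or.inr rfl)
  have hinjπ := D.injective hall hgenP
  have hφinj : Function.Injective φ := fun a b e => hinjπ (congrArg (back R) e)
  have hφsurj : φ.range = ⊤ := range_eq_top R hF (by omega) φ (fun a b hv => ⟨ψ a b, himg hv⟩)
    ⟨wP, hπw⟩
  exact ⟨v, L.toFinset, (List.toFinset_card_le L).trans hlen,
    MulEquiv.ofBijective φ ⟨hφinj, MonoidHom.range_eq_top.1 hφsurj⟩, hφof⟩

end CfsgLib.SUThreePresent
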