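import Cfsg.Agent.Lib.RegUnipU.Elem

/-!
The unipotent, diagonal and monomial matrices of the unitary group of the anti-diagonal form in dimension
three, and the Bruhat identity.
-/

set_option autoImplicit false
set_option linter.unusedSectionVars false
set_option linter.unusedSimpArgs false

namespace CfsgLib.SUThreePresent

open Matrix CfsgLib.RegUnipU

variable {F : Type*} [Field F] {q : ℕ} (C : Conj F q)

local notation "M3" => Matrix (Fin 3) (Fin 3) F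

/-- The parameters of the unipotent group. -/
def Vl (a b : F) : Prop := b + C.σ b + a * C.σ a = 0

/-- The unipotent matrices. -/
def Um (a b : F) : M3 := !![1, a, b; 0, 1, -C.σ a; 0, 0, 1]

/-- The diagonal matrices. -/
def Tm (γ : F) : M3 := !![γ, 0, 0; 0, C.σ γ / γ, 0; 0, 0, (C.σ γ)⁻¹]

/-- The monomial matrix. -/
def Wm : M3 := !![0, 0, 1; 0, -1, 0; 1, 0, 0]

variable {C}

theorem Vl.zero : Vl C 0 0 := by simp [Vl]

theorem Vl.central {s : F} : Vl C 0 s ↔ C.σ s = -s := by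
  rw [Vl, mul_comm, map_zero, zero_mul, add_zero, eq_neg_iff_add_eq_zero, add_comm]

theorem Vl.add {a b c d : F} (h : Vl C a b) (h' : Vl C c d) : Vl C (a + c) (b + d - a * C.σ c) := by
  unfold Vl at *
  simp only [map_add, map_sub, map_mul, C.hσ2]
  linear_combination h + h'

theorem Vl.inv {a b : F} (h : Vl C a b) : Vl C (-a) (C.σ b) := by
  unfold Vl at *
  rw [map_neg, C.hσ2]
  linear_combination h

theorem Vl.b_ne {a b : F} (h : Vl C a b) (ha : a ≠ 0) : b ≠ 0 := by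
  intro hb
  unfold Vl at h
  rw [hb, map_zero, zero_add, zero_add, mul_eq_zero] at h
  exact ha (h.elim id fun h => (map_eq_zero C.σ).1 h)

theorem Vl.ne {a b : F} (h : Vl C a b) (hne : ¬(a = 0 ∧ b = 0)) : b ≠ 0 := fun hb =>
  hne ⟨by_contra fun ha => h.b_ne ha hb, hb⟩

theorem Vl.smul {a b γ : F} (h : Vl C a b) (hγ : γ ≠ 0) :
    Vl C (γ ^ 2 / C.σ γ * a) (γ * C.σ γ * b) := by
  have hσ : C.σ γ ≠ 0 := (map_ne_zero C.σ).2 hγ
  unfold Vl at *
  simp only [map_mul, map_div₀, map_pow, C.hσ2]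
  field_simp
  linear_combination (γ * C.σ γ) * h

/-- The left factor of the Bruhat identity. -/
theorem Vl.left {a b : F} (h : Vl C a b) (hb : b ≠ 0) : Vl C (-a / C.σ b) (1 / b) := by
  have hσ : C.σ b ≠ 0 := (map_ne_zero C.σ).2 hb
  unfold Vl at *
  simp only [map_div₀, map_neg, map_one, C.hσ2]
  field_simp
  linear_combination h

/-- The right factor of the Bruhat identity. -/
theorem Vl.right {a b : F} (h : Vl C a b) (hb : b ≠ 0) : Vl C (-a / b) (1 / b) := by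
  have hσ : C.σ b ≠ 0 := (map_ne_zero C.σ).2 hb
  unfold Vl at *
  simp only [map_div₀, map_neg, map_one, C.hσ2]
  field_simp
  linear_combination h

theorem Um_zero : Um C 0 0 = 1 := by
  ext i j; fin_cases i <;> fin_cases j <;> simp [Um]

theorem Um_mul (a b c d : F) : Um C a b * Um C c d = Um C (a + c) (b + d - a * C.σ c) := by
  ext i j
  fin_cases i <;> fin_cases j <;> simp [Um, Matrix.mul_apply, Fin.sum_univ_three] <;> ring

theorem Tm_mul {γ δ : F} : Tm C γ * Tm C δ = Tm C (γ * δ) := by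
  ext i j
  fin_cases i <;> fin_cases j <;> simp [Tm, Matrix.mul_apply, Fin.sum_univ_three, mul_comm] <;>
    ring

theorem Tm_one : Tm C (1 : F) = 1 := by
  ext i j; fin_cases i <;> fin_cases j <;> simp [Tm]

theorem Tm_Um {γ : F} (hγ : γ ≠ 0) (a b : F) :
    Tm C γ * Um C a b = Um C (γ ^ 2 / C.σ γ * a) (γ * C.σ γ * b) * Tm C γ := by
  have hσ : C.σ γ ≠ 0 := (map_ne_zero C.σ).2 hγ
  ext i j
  fin_cases i <;> fin_cases j <;>
    simp [Tm, Um, Matrix.mul_apply, Fin.sum_univ_three, C.hσ2, map_div₀] <;> field_simp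

theorem Wm_sq : (Wm : M3) * Wm = 1 := by
  ext i j; fin_cases i <;> fin_cases j <;> simp [Wm, Matrix.mul_apply, Fin.sum_univ_three]

theorem Wm_Tm (γ : F) : Wm * Tm C γ = Tm C (C.σ γ)⁻¹ * Wm := by
  ext i j
  fin_cases i <;> fin_cases j <;>
    simp [Wm, Tm, Matrix.mul_apply, Fin.sum_univ_three, C.hσ2, map_inv₀, div_eq_mul_inv, mul_comm]

/-- The Bruhat identity. -/
theorem bruhat_id {a b : F} (h : Vl C a b) (hb : b ≠ 0) :
    Wm * Um C a b * Wm =
      Um C (-a / C.σ b) (1 / b) * Tm C (C.σ b)⁻¹ * Wm * Um C (-a / b) (1 / b) := by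
  have hσ : C.σ b ≠ 0 := (map_ne_zero C.σ).2 hb
  unfold Vl at h
  ext i j
  fin_cases i <;> fin_cases j <;>
    simp [Wm, Tm, Um, Matrix.mul_apply, Fin.sum_univ_three, C.hσ2, map_inv₀, map_div₀] <;>
    field_simp <;> first | linear_combination h | linear_combination -h | linear_combination (0 : F)

/-- A big normal form. -/
def bigForm (C : Conj F q) (x : F × F) (γ : F) (y : F × F) : M3 :=
  Um C x.1 x.2 * Tm C γ * Wm * Um C y.1 y.2

theorem bigForm_col (x : F × F) (γ : F) (y : F × F) :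
    bigForm C x γ y 2 0 = (C.σ γ)⁻¹ ∧ bigForm C x γ y 0 0 = x.2 * (C.σ γ)⁻¹ ∧
      bigForm C x γ y 1 0 = -C.σ x.1 * (C.σ γ)⁻¹ ∧ bigForm C x γ y 2 1 = (C.σ γ)⁻¹ * y.1 ∧
      bigForm C x γ y 2 2 = (C.σ γ)⁻¹ * y.2 := by
  refine ⟨?_, ?_, ?_, ?_, ?_⟩ <;>
    simp [bigForm, Wm, Tm, Um, Matrix.mul_apply, Fin.sum_univ_three]

theorem bigForm_inj {x y x' y' : F × F} {γ γ' : F} (hγ : γ ≠ 0)
    (h : bigForm C x γ y = bigForm C x' γ' y') : x = x' ∧ γ = γ' ∧ y = y' := by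
  obtain ⟨a1, a2, a3, a4, a5⟩ := bigForm_col (C := C) x γ y
  obtain ⟨b1, b2, b3, b4, b5⟩ := bigForm_col (C := C) x' γ' y'
  rw [h] at a1 a2 a3 a4 a5
  have hσ : (C.σ γ)⁻¹ ≠ 0 := inv_ne_zero ((map_ne_zero C.σ).2 hγ)
  have e : (C.σ γ)⁻¹ = (C.σ γ')⁻¹ := a1.symm.trans b1
  rw [← e] at b2 b3 b4 b5
  refine ⟨Prod.ext ?_ (mul_right_cancel₀ hσ (a2.symm.trans b2)), C.σ.injective (inv_injective e),
    Prod.ext (mul_left_cancel₀ hσ (a4.symm.trans b4)) (mul_left_cancel₀ hσ (a5.symm.trans b5))⟩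
  exact C.σ.injective (neg_injective (mul_right_cancel₀ hσ (a3.symm.trans b3)))

theorem small_apply (x : F × F) (γ : F) :
    (Um C x.1 x.2 * Tm C γ) 2 0 = 0 ∧ (Um C x.1 x.2 * Tm C γ) 0 0 = γ ∧
      (Um C x.1 x.2 * Tm C γ) 0 1 = x.1 * (C.σ γ / γ) ∧
      (Um C x.1 x.2 * Tm C γ) 0 2 = x.2 * (C.σ γ)⁻¹ := by
  refine ⟨?_, ?_, ?_, ?_⟩ <;> simp [Tm, Um, Matrix.mul_apply, Fin.sum_univ_three]

theorem small_ne_big {x x' y : F × F} {γ γ' : F} (hγ' : γ' ≠ 0) :
    Um C x.1 x.2 * Tm C γ ≠ bigForm C x' γ' y := fun h => by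
  have a := (small_apply (C := C) x γ).1
  rw [h, (bigForm_col x' γ' y).1] at a
  exact inv_ne_zero ((map_ne_zero C.σ).2 hγ') a

theorem small_inj {x x' : F × F} {γ γ' : F} (hγ : γ ≠ 0)
    (h : Um C x.1 x.2 * Tm C γ = Um C x'.1 x'.2 * Tm C γ') : x = x' ∧ γ = γ' := by
  obtain ⟨-, a2, a3, a4⟩ := small_apply (C := C) x γ
  obtain ⟨-, b2, b3, b4⟩ := small_apply (C := C) x' γ'
  rw [h] at a2 a3 a4
  obtain rfl : γ = γ' := a2.symm.trans b2
  have hσ : C.σ γ ≠ 0 := (map_ne_zero C.σ).2 hγ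
  exact ⟨Prod.ext (mul_right_cancel₀ (div_ne_zero hσ hγ) (a3.symm.trans b3))
    (mul_right_cancel₀ (inv_ne_zero hσ) (a4.symm.trans b4)), rfl⟩

theorem Um_inj {x x' : F × F} (h : Um C x.1 x.2 = Um C x'.1 x'.2) : x = x' :=
  (small_inj (one_ne_zero (α := F)) (by rw [Tm_one, mul_one, mul_one]; exact h)).1

end CfsgLib.SUThreePresent
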