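import Cfsg.Agent.Lib.SUThreePresent.Closure
import Cfsg.Agent.Lib.SLTwoPresent.Word

/-!
The unipotent group of the anti-diagonal unitary group from a bounded set of relations on one element and
the torus element.
-/

set_option autoImplicit false
set_option linter.unusedSectionVars false
set_option linter.unusedSimpArgs false

namespace CfsgLib.SUThreePresent

open Matrix Polynomial CfsgLib.RegUnipU CfsgLib.SLTwoPresent
open scoped commutatorElement

variable {F : Type*} [Field F] {q : ℕ}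

/-- The fixed field of the conjugation. -/
abbrev Kfix (C : Conj F q) : Subfield F := C.σ.eqLocusField (RingHom.id F)

theorem mem_Kfix {C : Conj F q} {t : F} : t ∈ Kfix C ↔ C.σ t = t := Iff.rfl

theorem K_sigma {C : Conj F q} (t : Kfix C) : C.σ (t : F) = t := t.2

/-- The norm of the generator. -/
def xK (C : Conj F q) (ω : F) : Kfix C :=
  ⟨ω * C.σ ω, mem_Kfix.2 (by rw [map_mul, C.hσ2, mul_comm])⟩

/-- The trace of the multiplier of the first coordinate. -/
def betaK (C : Conj F q) (ω : F) : Kfix C :=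
  ⟨ω ^ 2 / C.σ ω + C.σ (ω ^ 2 / C.σ ω), mem_Kfix.2 (by rw [map_add, C.hσ2, add_comm])⟩

/-- The first commutator value. -/
def s0Of (C : Conj F q) (ω a0 : F) : F :=
  a0 * C.σ a0 * (ω ^ 2 / C.σ ω - C.σ (ω ^ 2 / C.σ ω))

/-- The central element of the second derived step. -/
def zel {G : Type*} [Group G] (u h : G) : G := ⁅u, h * u * h⁻¹⁆

/-- The subgroup of the conjugates of the central element. -/
def Zsub {G : Type*} [Group G] (u h : G) : Subgroup G :=
  Subgroup.closure (Set.range fun k : ℕ => h ^ k * zel u h * (h ^ k)⁻¹)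

namespace Gen

variable {ω : F} (O : Gen F q ω)
include O

theorem x_gen (C : Conj F q) (t : Kfix C) (ht : t ≠ 0) : ∃ i : ℕ, t = xK C ω ^ i := by
  obtain ⟨γ, hγ, hN⟩ := O.norm_surj C (K_sigma t) (fun e => ht (Subtype.ext e))
  obtain ⟨i, rfl⟩ := O.gen γ hγ
  refine ⟨i, Subtype.ext ?_⟩
  rw [← hN, SubmonoidClass.coe_pow, xK, map_pow, ← mul_pow]

theorem x_ne (C : Conj F q) : xK C ω ≠ 0 := fun e =>
  mul_ne_zero O.ne_zero ((map_ne_zero C.σ).2 O.ne_zero) (congrArg Subtype.val e)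

theorem lam_ne (C : Conj F q) (hq : 3 ≤ q) : ω ^ 2 / C.σ ω - C.σ (ω ^ 2 / C.σ ω) ≠ 0 := by
  intro e
  have hω := O.ne_zero
  have hσ : C.σ ω ≠ 0 := (map_ne_zero C.σ).2 hω
  rw [sub_eq_zero, map_div₀, map_pow, C.hσ2, div_eq_div_iff hσ hω, ← pow_succ, ← pow_succ, C.hσ,
    ← pow_mul, mul_comm, pow_mul, eq_comm] at e
  have h1 : (ω ^ 3) ^ (q - 1) = 1 := by
    apply mul_right_cancel₀ (pow_ne_zero 3 hω)
    rw [← pow_succ, Nat.sub_add_cancel (by omega), one_mul]
    exact e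
  rw [← pow_mul] at h1
  have h2 := orderOf_dvd_of_pow_eq_one h1
  rw [O.ord, O.sq_sub, Nat.mul_dvd_mul_iff_right (by omega : 0 < q - 1)] at h2
  have := Nat.le_of_dvd (by norm_num) h2
  omega

end Gen

variable {p : ℕ} [hp : Fact p.Prime] {C : Conj F q} [Algebra (ZMod p) (Kfix C)]

/-- Induction over the fixed field from the powers of the norm of the generator. -/
theorem K_induction {ω : F} (O : Gen F q ω) {P : Kfix C → Prop} (h0 : P 0)
    (hx : ∀ i : ℕ, P (xK C ω ^ i)) (t : Kfix C) : P t := by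
  rcases eq_or_ne t 0 with rfl | ht
  · exact h0
  · obtain ⟨i, rfl⟩ := O.x_gen C t ht
    exact hx i

theorem aeval_surj {ω : F} (O : Gen F q ω) :
    Function.Surjective (aeval (xK C ω) : (ZMod p)[X] → Kfix C) := fun t => by
  refine K_induction O (P := fun t => ∃ Q, (aeval (xK C ω) : (ZMod p)[X] → Kfix C) Q = t) ⟨0, map_zero _⟩
    (fun i => ⟨X ^ i, by simp⟩) t

theorem word_X {G : Type*} [Group G] (u g : G) : word u g (X : (ZMod p)[X]) = g * u * g⁻¹ := by
  simp [word, List.range_succ, Polynomial.coeff_X, ZMod.val_one]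

/-- The relations on the unipotent element and the torus element. -/
structure BorelRels (C : Conj F q) [Algebra (ZMod p) (Kfix C)] (ω : F) {G : Type*} [Group G]
    (u h : G) : Prop where
  hz_p : zel u h ^ p = 1
  hz_comm : ∀ k : ℕ, Commute (zel u h) (h ^ k * zel u h * (h ^ k)⁻¹)
  hz_min : word (zel u h) h (minpoly (ZMod p) (xK C ω)) = 1
  hcen : ∀ k : ℕ, Commute u (h ^ k * zel u h * (h ^ k)⁻¹)
  hu_p : u ^ p ∈ Zsub u h
  hu_comm : ⁅u, h ^ (q + 1) * u * (h ^ (q + 1))⁻¹⁆ ∈ Zsub u h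
  hu_spread : (∃ c : ℕ, (u * (h ^ (q + 1) * u * (h ^ (q + 1))⁻¹))⁻¹ *
      ((h ^ (q + 1)) ^ c * u * ((h ^ (q + 1)) ^ c)⁻¹) ∈ Zsub u h) ∨
    u⁻¹ * (h ^ (q + 1) * (h ^ (q + 1) * u * (h ^ (q + 1))⁻¹) * (h ^ (q + 1))⁻¹) ∈ Zsub u h
  hu_min : word u (h ^ (q + 1)) (minpoly (ZMod p) (xK C ω)) ∈ Zsub u h
  hQ : ∃ Pa Pb : (ZMod p)[X], aeval (xK C ω) Pa = -xK C ω ∧ aeval (xK C ω) Pb = betaK C ω ∧
    (word u (h ^ (q + 1)) Pa * word (h * u * h⁻¹) (h ^ (q + 1)) Pb)⁻¹ * (h * (h * u * h⁻¹) * h⁻¹) ∈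
      Zsub u h

theorem Um_comm (a b c d : F) :
    Um C a b * Um C c d = Um C 0 (c * C.σ a - a * C.σ c) * (Um C c d * Um C a b) := by
  rw [Um_mul, Um_mul, Um_mul, map_add, zero_add, zero_mul, sub_zero, add_comm c a]
  congr 1
  ring

theorem exists_psi {ω : F} (O : Gen F q ω) (hq3 : 3 ≤ q) {G : Type*} [Group G]
    (π : G →* Matrix (Fin 3) (Fin 3) F) {u h : G} (hgen : Subgroup.closure ({u, h} : Set G) = ⊤)
    {a0 b0 : F} (h0 : Vl C a0 b0) (ha0 : a0 ≠ 0) (hu : π u = Um C a0 b0) (hh : π h = Tm C ω)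
    (hN : h ^ (q ^ 2 - 1) = 1) (R : BorelRels (p := p) C ω u h) :
    ∃ ψ : F → F → G,
      (∀ {a b c d}, Vl C a b → Vl C c d → ψ a b * ψ c d = ψ (a + c) (b + d - a * C.σ c)) ∧
      (∀ {a b}, Vl C a b → π (ψ a b) = Um C a b) ∧
      (∀ {a b}, Vl C a b → h * ψ a b * h⁻¹ = ψ (ω ^ 2 / C.σ ω * a) (ω * C.σ ω * b)) ∧
      ψ a0 b0 = u ∧ ψ 0 (s0Of C ω a0) = zel u h := by
  classical
  have hω := O.ne_zero
  have hσω : C.σ ω ≠ 0 := (map_ne_zero C.σ).2 hω
  set lam : F := ω ^ 2 / C.σ ω with hlam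
  set s0 := s0Of C ω a0 with hs0d
  have hs0 : s0 ≠ 0 := mul_ne_zero (mul_ne_zero ha0 ((map_ne_zero C.σ).2 ha0)) (O.lam_ne C hq3)
  have hs0σ : C.σ s0 = -s0 := by
    simp only [hs0d, s0Of, map_mul, map_sub, C.hσ2]; ring
  have hinv : ∀ k : ℕ, ∃ m : ℕ, (h ^ k)⁻¹ = h ^ m := fun k => by
    refine ⟨k * (q ^ 2 - 1) - k, inv_eq_of_mul_eq_one_right ?_⟩
    have : 1 ≤ q ^ 2 - 1 := by
      have : 4 ≤ q ^ 2 := by nlinarith
      omega
    rw [← pow_add, Nat.add_sub_cancel' (Nat.le_mul_of_pos_right k (by omega)), mul_comm, pow_mul, hN,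
      one_pow]
  obtain ⟨n1, hn1⟩ := hinv 1
  rw [pow_one] at hn1
  -- images of conjugates
  have hTU : ∀ {g : G} {γ : F}, γ ≠ 0 → π g = Tm C γ → ∀ {x : G} {a b : F}, π x = Um C a b →
      π (g * x * g⁻¹) = Um C (γ ^ 2 / C.σ γ * a) (γ * C.σ γ * b) := by
    intro g γ hγ hg x a b hx
    rw [map_mul, map_mul, hg, hx, Tm_Um hγ, mul_assoc, ← hg, ← map_mul, mul_inv_cancel, map_one, mul_one]
  have hhpow : ∀ k : ℕ, π (h ^ k) = Tm C (ω ^ k) := fun k => by
    induction k with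
    | zero => rw [pow_zero, pow_zero, map_one, Tm_one]
    | succ k ih => rw [pow_succ, map_mul, ih, hh, Tm_mul, pow_succ]
  set g := h ^ (q + 1) with hg
  have hx1 : ω ^ (q + 1) = ω * C.σ ω := by rw [C.hσ, pow_succ']
  have hgx : (ω ^ (q + 1)) ^ 2 / C.σ (ω ^ (q + 1)) = (xK C ω : F) := by
    have hσx : C.σ (ω * C.σ ω) = ω * C.σ ω := K_sigma (xK C ω)
    rw [hx1, hσx, sq, mul_div_assoc, div_self (mul_ne_zero hω hσω), mul_one]
    rfl
  -- the central part
  set z := zel u h with hz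
  have hπz : π z = Um C 0 s0 := by
    rw [hz, zel, commutatorElement_def]
    have hv : π (h * u * h⁻¹) = Um C (lam * a0) (ω * C.σ ω * b0) := hTU hω hh hu
    generalize h * u * h⁻¹ = v at hv ⊢
    have e : π (u * v) = Um C 0 s0 * π (v * u) := by
      rw [map_mul, map_mul, hu, hv, Um_comm]
      congr 2
      simp only [hs0d, s0Of, ← hlam, map_mul]; ring
    rw [show u * v * u⁻¹ * v⁻¹ = u * v * (v * u)⁻¹ by group, map_mul, e, mul_assoc, ← map_mul,
      mul_inv_cancel, map_one, mul_one]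
  obtain ⟨ψZ, hZadd, hZ1, hZh, -, -⟩ := exists_param z h h (xK C ω) (xK C ω) R.hz_p R.hz_comm
    (Commute.refl h) (aeval_surj O) X (aeval_X _) (word_X z h).symm (Or.inl R.hz_min)
  have hZ0 : ψZ 0 = 1 := by
    have h1 := hZadd 0 0
    rw [add_zero] at h1
    exact left_eq_mul.1 h1
  have hZneg : ∀ t, ψZ (-t) = (ψZ t)⁻¹ := fun t => by
    rw [eq_inv_iff_mul_eq_one, ← hZadd, neg_add_cancel, hZ0]
  have hZiter : ∀ k : ℕ, h ^ k * z * (h ^ k)⁻¹ = ψZ (xK C ω ^ k) := fun k => by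
    induction k with
    | zero => simp [hZ1]
    | succ k ih =>
      rw [show h ^ (k + 1) * z * (h ^ (k + 1))⁻¹ = h * (h ^ k * z * (h ^ k)⁻¹) * h⁻¹ by
        rw [pow_succ']; group, ih, hZh, pow_succ']
  have hZmem : ∀ t, ψZ t ∈ Zsub u h := by
    refine K_induction O (by rw [hZ0]; exact one_mem _) fun i => ?_
    rw [← hZiter]
    exact Subgroup.subset_closure ⟨i, rfl⟩
  have hZrange : ∀ x ∈ Zsub u h, ∃ t, x = ψZ t := by
    intro x hx
    refine Subgroup.closure_induction (p := fun x _ => ∃ t, x = ψZ t) ?_ ⟨0, hZ0.symm⟩ ?_ ?_ hx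
    · rintro _ ⟨k, rfl⟩; exact ⟨_, hZiter k⟩
    · rintro _ _ _ _ ⟨s, rfl⟩ ⟨t, rfl⟩; exact ⟨s + t, (hZadd s t).symm⟩
    · rintro _ _ ⟨t, rfl⟩; exact ⟨-t, (hZneg t).symm⟩
  have hπZ : ∀ t : Kfix C, π (ψZ t) = Um C 0 (t * s0) := by
    refine K_induction O (by rw [hZ0, map_one]; simp [Um_zero]) fun i => ?_
    rw [← hZiter, hTU (pow_ne_zero _ hω) (hhpow i) hπz, mul_zero]
    congr 1
    rw [SubmonoidClass.coe_pow, xK, map_pow, ← mul_pow]
  have hucen : ∀ t, Commute u (ψZ t) :=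
    K_induction O (by rw [hZ0]; exact Commute.one_right _) fun i => hZiter i ▸ R.hcen i
  haveI hnorm : (Zsub u h).Normal := by
    refine Subgroup.normalizer_eq_top_iff.1 (eq_top_iff.2 (hgen ▸ (Subgroup.closure_le _).2 ?_))
    rintro a (rfl | rfl)
    · refine Subgroup.mem_normalizer_iff.2 fun x => ⟨fun hx => ?_, fun hx => ?_⟩
      · obtain ⟨t, rfl⟩ := hZrange x hx
        rwa [(hucen t).eq, mul_inv_cancel_right]
      · obtain ⟨t, ht⟩ := hZrange _ hx
        have : x = a⁻¹ * (ψZ t) * a := by rw [← ht]; group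
        rw [this, mul_assoc, ← (hucen t).eq, inv_mul_cancel_left]
        exact hZmem t
    · refine Subgroup.mem_normalizer_iff.2 fun x => ⟨fun hx => ?_, fun hx => ?_⟩
      · obtain ⟨t, rfl⟩ := hZrange x hx
        rw [hZh]; exact hZmem _
      · obtain ⟨t, ht⟩ := hZrange _ hx
        have : x = a⁻¹ * ψZ t * a := by rw [← ht]; group
        have e := hZh ((xK C ω)⁻¹ * t)
        rw [mul_inv_cancel_left₀ (O.x_ne C)] at e
        rw [this, ← e, show a⁻¹ * (a * ψZ ((xK C ω)⁻¹ * t) * a⁻¹) * a = ψZ ((xK C ω)⁻¹ * t) by group]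
        exact hZmem _
  -- the quotient
  set N := Zsub u h
  set mk := QuotientGroup.mk' N with hmk
  have hker : ∀ x, mk x = 1 ↔ x ∈ N := fun x => QuotientGroup.eq_one_iff x
  have heq : ∀ {x y}, x⁻¹ * y ∈ N → mk x = mk y := fun {x y} hxy => by
    have := (hker _).2 hxy
    rwa [map_mul, map_inv, inv_mul_eq_one] at this
  have hup : mk u ^ p = 1 := by rw [← map_pow]; exact (hker _).2 R.hu_p
  have hc1 : Commute (mk u) (mk g * mk u * (mk g)⁻¹) := by
    have h1 := (hker _).2 R.hu_comm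
    simp only [commutatorElement_def, map_mul, map_inv] at h1
    exact commutatorElement_eq_one_iff_mul_comm.1 (by rw [commutatorElement_def]; exact h1)
  have hgcomm : ∀ k : ℕ, Commute (mk u) (mk g ^ k * mk u * (mk g ^ k)⁻¹) := by
    rcases R.hu_spread with ⟨c, hc⟩ | hc
    · refine commute_trinomial (i := 1) (j := 1) (c := mk g ^ c) hup hc1 ((Commute.refl _).pow_left c)
        hp.out.not_dvd_one hp.out.not_dvd_one ?_
      have := heq hc
      simp only [map_mul, map_inv, map_pow] at this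
      rw [pow_one, pow_one]
      exact this.symm
    · refine commute_quadratic (i := 1) (j := 0) hc1 ?_
      have := heq hc
      simp only [map_mul, map_inv] at this
      rw [pow_one, pow_zero, mul_one]
      exact this.symm
  obtain ⟨L1, hL1add, hL11, hL1g, -, hL1w⟩ := exists_param (mk u) (mk g) (mk g) (xK C ω) (xK C ω) hup
    hgcomm (Commute.refl _) (aeval_surj O) X (aeval_X _) (word_X _ _).symm
    (Or.inl (by rw [← map_word]; exact (hker _).2 R.hu_min))
  have hL10 : L1 0 = 1 := by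
    have h1 := hL1add 0 0
    rw [add_zero] at h1
    exact left_eq_mul.1 h1
  set hb := mk h with hhb
  have hgh : Commute hb (mk g) := ((Commute.refl h).pow_right (q + 1)).map mk
  set L2 : Kfix C → G ⧸ N := fun t => hb * L1 t * hb⁻¹ with hL2
  have hL2add : ∀ s t, L2 (s + t) = L2 s * L2 t := fun s t => by
    simp only [L2, hL1add]; group
  have hL20 : L2 0 = 1 := by simp [L2, hL10]
  have hL2g : ∀ t, mk g * L2 t * (mk g)⁻¹ = L2 (xK C ω * t) := fun t => by
    simp only [L2, ← hL1g]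
    have e := hgh.eq
    have e' := hgh.inv_inv.eq
    calc mk g * (hb * L1 t * hb⁻¹) * (mk g)⁻¹ = (mk g * hb) * L1 t * (hb⁻¹ * (mk g)⁻¹) := by group
      _ = (hb * mk g) * L1 t * ((mk g)⁻¹ * hb⁻¹) := by rw [e, e']
      _ = _ := by group
  have hL1i : ∀ (i : ℕ) t, mk g ^ i * L1 t * (mk g ^ i)⁻¹ = L1 (xK C ω ^ i * t) := fun i => by
    induction i with
    | zero => simp
    | succ i ih =>
      intro t
      rw [show mk g ^ (i + 1) * L1 t * (mk g ^ (i + 1))⁻¹ =
        mk g ^ i * (mk g * L1 t * (mk g)⁻¹) * (mk g ^ i)⁻¹ by rw [pow_succ]; group, hL1g, ih,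
        pow_succ, mul_assoc]
  have hL2i : ∀ (i : ℕ) t, mk g ^ i * L2 t * (mk g ^ i)⁻¹ = L2 (xK C ω ^ i * t) := fun i => by
    induction i with
    | zero => simp
    | succ i ih =>
      intro t
      rw [show mk g ^ (i + 1) * L2 t * (mk g ^ (i + 1))⁻¹ =
        mk g ^ i * (mk g * L2 t * (mk g)⁻¹) * (mk g ^ i)⁻¹ by rw [pow_succ]; group, hL2g, ih,
        pow_succ, mul_assoc]
  -- the quadratic relation
  set α : Kfix C := -xK C ω
  set β : Kfix C := betaK C ω
  have hL2sq : ∀ t, hb * L2 t * hb⁻¹ = L1 (α * t) * L2 (β * t) := by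
    refine K_induction O (by simp [hL20, hL10]) fun i => ?_
    have base : hb * L2 1 * hb⁻¹ = L1 α * L2 β := by
      obtain ⟨Pa, Pb, hPa, hPb, hQ⟩ := R.hQ
      have h1 := heq hQ
      simp only [map_mul, map_inv, map_word] at h1
      have hL2w : word (hb * mk u * hb⁻¹) (mk g) Pb = hb * word (mk u) (mk g) Pb * hb⁻¹ := by
        have e : MulAut.conj hb (mk g) = mk g := by
          rw [MulAut.conj_apply, hgh.eq, mul_inv_cancel_right]
        have := (map_word (MulAut.conj hb).toMonoidHom (mk u) (mk g) Pb).symm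
        simp only [MulEquiv.coe_toMonoidHom, MulAut.conj_apply] at this
        rwa [← MulAut.conj_apply hb (mk g), e] at this
      rw [hL2w, hL1w, hL1w, hPa, hPb] at h1
      simp only [L2, hL11]
      exact h1.symm
    have e : Commute (mk g ^ i) hb := (hgh.symm).pow_left i
    have h2 := congrArg (fun y => mk g ^ i * y * (mk g ^ i)⁻¹) base
    rw [show mk g ^ i * (hb * L2 1 * hb⁻¹) * (mk g ^ i)⁻¹ = hb * (mk g ^ i * L2 1 * (mk g ^ i)⁻¹) * hb⁻¹ by
        rw [← mul_assoc, ← mul_assoc, e.eq, mul_assoc _ hb⁻¹, ← e.inv_inv.eq]; group, hL2i, mul_one,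
      show mk g ^ i * (L1 α * L2 β) * (mk g ^ i)⁻¹ =
        (mk g ^ i * L1 α * (mk g ^ i)⁻¹) * (mk g ^ i * L2 β * (mk g ^ i)⁻¹) by group, hL1i, hL2i] at h2
    rw [h2, mul_comm α, mul_comm β]
  -- the two lines commute
  have hscale : ∀ t, Commute (L1 1) (L2 t) → ∀ s, s ≠ 0 → Commute (L1 s) (L2 (s * t)) := by
    intro t ht s hs
    obtain ⟨i, rfl⟩ := O.x_gen C s hs
    have := ht.map (MulAut.conj (mk g ^ i)).toMonoidHom
    simp only [MulEquiv.coe_toMonoidHom, MulAut.conj_apply, hL1i, hL2i, mul_one] at this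
    exact this
  have hL2comm : ∀ s t, Commute (L2 s) (L2 t) := fun s t => by
    rw [Commute, SemiconjBy, ← hL2add, ← hL2add, add_comm]
  have hA : ∀ t, Commute (L1 1) (L2 t) := by
    let A : AddSubgroup (Kfix C) :=
      { carrier := {t | Commute (L1 1) (L2 t)}
        zero_mem' := by show Commute _ (L2 0); rw [hL20]; exact Commute.one_right _
        add_mem' := fun {s t} hs ht => by show Commute _ (L2 (s + t)); rw [hL2add]; exact hs.mul_right ht
        neg_mem' := fun {t} ht => by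
          show Commute _ (L2 (-t))
          rw [show L2 (-t) = (L2 t)⁻¹ by rw [eq_inv_iff_mul_eq_one, ← hL2add, neg_add_cancel, hL20]]
          exact ht.inv_right }
    have h1A : (1 : Kfix C) ∈ A := by
      show Commute (L1 1) (hb * L1 1 * hb⁻¹)
      rw [hL11]
      have hzN : z ∈ N := Subgroup.subset_closure ⟨0, by simp [hz]⟩
      have h1 := (hker _).2 hzN
      simp only [hz, zel, commutatorElement_def, map_mul, map_inv] at h1
      exact commutatorElement_eq_one_iff_mul_comm.1 (by rw [commutatorElement_def]; exact h1)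
    have hαne : α ≠ 0 := neg_ne_zero.2 (O.x_ne C)
    have hι : ∀ t ∈ A, t ≠ 0 → (α * t)⁻¹ ∈ A := by
      intro t ht ht0
      have h2 := (show Commute (L1 1) (L2 t) from ht).map (MulAut.conj hb).toMonoidHom
      simp only [MulEquiv.coe_toMonoidHom, MulAut.conj_apply, hL2sq] at h2
      have h3 : Commute (L2 1) (L1 (α * t)) := by
        have := (show Commute (L2 1) (L1 (α * t) * L2 (β * t)) from h2).mul_right
          (hL2comm 1 (β * t)).inv_right
        rwa [mul_inv_cancel_right] at this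
      have hne := mul_ne_zero hαne ht0
      obtain ⟨i, hi⟩ := O.x_gen C _ (inv_ne_zero hne)
      have h4 := h3.symm.map (MulAut.conj (mk g ^ i)).toMonoidHom
      simp only [MulEquiv.coe_toMonoidHom, MulAut.conj_apply, hL1i, hL2i, mul_one, ← hi,
        inv_mul_cancel₀ hne] at h4
      exact h4
    have hαA : ∀ b ∈ A, α * b ∈ A := by
      intro b hb'
      rcases eq_or_ne b 0 with rfl | hb0
      · simp
      by_cases hone : α * b = 1
      · rw [hone]; exact h1A
      set c := (α * b)⁻¹ - 1 with hc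
      have hc0 : c ≠ 0 := by
        rw [hc, sub_ne_zero]; exact fun e => hone (by rw [← inv_inv (α * b), e, inv_one])
      have hcA : c ∈ A := A.sub_mem (hι b hb' hb0) h1A
      set d := (α * 1)⁻¹ + (α * c)⁻¹ with hd
      have hdA : d ∈ A := A.add_mem (hι 1 h1A one_ne_zero) (hι c hcA hc0)
      have hne1 : (1 : Kfix C) - α * b ≠ 0 := sub_ne_zero.2 (Ne.symm hone)
      have hdv : d = (α * (1 - α * b))⁻¹ := by
        have hcv : c = (1 - α * b) / (α * b) := by rw [hc]; field_simp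
        rw [hd, hcv]; field_simp; ring
      have hd0 : d ≠ 0 := by rw [hdv]; exact inv_ne_zero (mul_ne_zero hαne hne1)
      have := A.sub_mem h1A (hι d hdA hd0)
      have e : 1 - (α * d)⁻¹ = α * b := by rw [hdv]; field_simp; ring
      rwa [e] at this
    refine K_induction O A.zero_mem fun i => ?_
    induction i with
    | zero => rw [pow_zero]; exact h1A
    | succ i ih =>
      have := A.neg_mem (hαA _ ih)
      rwa [neg_mul, neg_neg, ← pow_succ'] at this
  have hL12 : ∀ s t, Commute (L1 s) (L2 t) := fun s t => by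
    rcases eq_or_ne s 0 with rfl | hs
    · rw [hL10]; exact Commute.one_left _
    have := hscale _ (hA (s⁻¹ * t)) s hs
    rwa [mul_inv_cancel_left₀ hs] at this
  -- coordinates
  set dl : F := lam - C.σ lam with hdl
  have hdl0 : dl ≠ 0 := O.lam_ne C hq3
  have hdlσ : C.σ dl = -dl := by rw [hdl, map_sub, C.hσ2]; ring
  let co : F → Kfix C := fun e => ⟨(e - C.σ e) / dl, mem_Kfix.2 (by
    rw [map_div₀, map_sub, C.hσ2, hdlσ, div_neg, ← neg_div, neg_sub])⟩
  let co' : F → Kfix C := fun e => ⟨e - (co e : F) * lam, mem_Kfix.2 (by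
    show C.σ (e - (e - C.σ e) / dl * lam) = e - (e - C.σ e) / dl * lam
    rw [map_sub, map_mul, map_div₀, map_sub, C.hσ2, hdlσ]
    field_simp
    rw [hdl]; ring)⟩
  let L : F → G ⧸ N := fun e => L1 (co' e) * L2 (co e)
  have hLadd : ∀ e e', L (e + e') = L e * L e' := fun e e' => by
    have e1 : co (e + e') = co e + co e' := Subtype.ext (by
      show (e + e' - C.σ (e + e')) / dl = (e - C.σ e) / dl + (e' - C.σ e') / dl
      rw [map_add]; ring)
    have e2 : co' (e + e') = co' e + co' e' := Subtype.ext (by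
      show e + e' - (co (e + e') : F) * lam = (e - (co e : F) * lam) + (e' - (co e' : F) * lam)
      rw [e1, Subfield.coe_add]; ring)
    show L1 _ * L2 _ = L1 _ * L2 _ * (L1 _ * L2 _)
    rw [e1, e2, hL1add, hL2add]
    exact (hL12 _ _).mul_mul_mul_comm _ _
  have hLst : ∀ s t : Kfix C, L ((s : F) + t * lam) = L1 s * L2 t := fun s t => by
    have e1 : co ((s : F) + t * lam) = t := Subtype.ext (by
      show ((s : F) + t * lam - C.σ ((s : F) + t * lam)) / dl = (t : F)
      rw [div_eq_iff hdl0, map_add, map_mul, K_sigma, K_sigma, hdl]; ring)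
    have e2 : co' ((s : F) + t * lam) = s := Subtype.ext (by
      show (s : F) + t * lam - (co ((s : F) + t * lam) : F) * lam = (s : F)
      rw [e1]; ring)
    show L1 _ * L2 _ = _
    rw [e1, e2]
  have hlam2 : lam * lam = (α : F) + (β : F) * lam := by
    show lam * lam = -(ω * C.σ ω) + (lam + C.σ lam) * lam
    simp only [hlam, map_div₀, map_pow, C.hσ2]
    field_simp
    ring
  have hLh : ∀ e, hb * L e * hb⁻¹ = L (lam * e) := fun e => by
    have hh' : hb * L e * hb⁻¹ = (hb * L1 (co' e) * hb⁻¹) * (hb * L2 (co e) * hb⁻¹) := by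
      show hb * (L1 _ * L2 _) * hb⁻¹ = _
      group
    rw [hh', hL2sq, show hb * L1 (co' e) * hb⁻¹ = L2 (co' e) from rfl, ← mul_assoc, ← (hL12 _ _).eq,
      mul_assoc, ← hL2add, ← hLst]
    congr 1
    show ((α * co e : Kfix C) : F) + ((co' e + β * co e : Kfix C) : F) * lam = lam * e
    rw [Subfield.coe_add, Subfield.coe_mul, Subfield.coe_mul,
      show (co' e : F) = e - (co e : F) * lam from rfl]
    linear_combination -(co e : F) * hlam2
  have hL0 : L 0 = 1 := by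
    have := hLst 0 0
    rw [Subfield.coe_zero, zero_mul, add_zero] at this
    rw [this, hL10, hL20, mul_one]
  -- the unipotent group upstairs
  let S : Subgroup G :=
    { carrier := {x | ∃ a b, Vl C a b ∧ π x = Um C a b ∧ mk x = L (a / a0)}
      one_mem' := ⟨0, 0, Vl.zero, by rw [map_one, Um_zero], by rw [map_one, zero_div, hL0]⟩
      mul_mem' := fun {x y} ⟨a, b, hv, e1, e2⟩ ⟨c, d, hv', e1', e2'⟩ => ⟨_, _, hv.add hv',
        by rw [map_mul, e1, e1', Um_mul], by rw [map_mul, e2, e2', ← hLadd, add_div]⟩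
      inv_mem' := fun {x} ⟨a, b, hv, e1, e2⟩ => ⟨-a, C.σ b, hv.inv, by
        have h1 : π x⁻¹ * Um C a b = 1 := by rw [← e1, ← map_mul, inv_mul_cancel, map_one]
        have h2 : Um C a b * Um C (-a) (C.σ b) = 1 := by
          rw [Um_mul, add_neg_cancel, map_neg, show b + C.σ b - a * -C.σ a = b + C.σ b + a * C.σ a by ring,
            show b + C.σ b + a * C.σ a = 0 from hv, Um_zero]
        rw [← one_mul (Um C (-a) _), ← h1, mul_assoc, h2, mul_one], by
        rw [map_inv, e2, inv_eq_iff_mul_eq_one, ← hLadd, neg_div, add_neg_cancel, hL0]⟩ }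
  have hSZ : N ≤ S := fun x hx => by
    obtain ⟨t, rfl⟩ := hZrange x hx
    refine ⟨0, t * s0, Vl.central.2 (by rw [map_mul, K_sigma, hs0σ, mul_neg]), hπZ t, ?_⟩
    rw [zero_div, hL0]
    exact (hker _).2 hx
  have huS : u ∈ S := ⟨a0, b0, h0, hu, by
    have := hLst 1 0
    rw [Subfield.coe_one, Subfield.coe_zero, zero_mul, add_zero] at this
    rw [div_self ha0, this, hL20, mul_one, hL11]⟩
  have hSh : ∀ x ∈ S, h * x * h⁻¹ ∈ S := by
    intro x hx
    obtain ⟨a, b, hv, e1, e2⟩ := hx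
    refine ⟨_, _, hv.smul hω, hTU hω hh e1, ?_⟩
    rw [map_mul, map_mul, map_inv, e2]
    rw [hhb] at hLh
    rw [hLh, hlam, mul_div_assoc]
  have hSk : ∀ (k : ℕ), ∀ x ∈ S, h ^ k * x * (h ^ k)⁻¹ ∈ S := fun k => by
    induction k with
    | zero => simp
    | succ k ih =>
      intro x hx
      rw [show h ^ (k + 1) * x * (h ^ (k + 1))⁻¹ = h ^ k * (h * x * h⁻¹) * (h ^ k)⁻¹ by
        rw [pow_succ]; group]
      exact ih _ (hSh x hx)
  have h1 : ∀ t : Kfix C, ∃ x ∈ S, ∃ b, Vl C ((t : F) * a0) b ∧ π x = Um C ((t : F) * a0) b := by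
    refine K_induction O ⟨1, one_mem _, 0, by simp [Vl.zero], by simp [Um_zero]⟩ fun i => ?_
    have hpk : π (g ^ i) = Tm C ((ω ^ (q + 1)) ^ i) := by rw [hg, ← pow_mul, hhpow, pow_mul]
    have hne := pow_ne_zero i (pow_ne_zero (q + 1) hω)
    have hcoef : ((ω ^ (q + 1)) ^ i) ^ 2 / C.σ ((ω ^ (q + 1)) ^ i) * a0 = ((xK C ω ^ i : Kfix C) : F) * a0 := by
      rw [SubmonoidClass.coe_pow, ← hgx, div_pow, map_pow C.σ (ω ^ (q + 1)) i, ← pow_mul (ω ^ (q + 1)),
        ← pow_mul (ω ^ (q + 1)), mul_comm i 2]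
    have hvi := h0.smul (C := C) hne
    have hπi := hTU hne hpk hu
    rw [hcoef] at hvi hπi
    exact ⟨g ^ i * u * (g ^ i)⁻¹, by rw [hg, ← pow_mul]; exact hSk _ u huS, _, hvi, hπi⟩
  have hfill : ∀ a b, Vl C a b → ∃ x ∈ S, π x = Um C a b := fun a b hv => by
    obtain ⟨x1, hx1, b1, v1, p1⟩ := h1 (co' (a / a0))
    obtain ⟨x2, hx2, b2, v2, p2⟩ := h1 (co (a / a0))
    have p2' := hTU hω hh p2
    have v2' := v2.smul (C := C) hω
    have e1 : π (x1 * (h * x2 * h⁻¹)) = _ := (map_mul π _ _).trans (by rw [p1, p2', Um_mul])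
    have hv' := v1.add v2'
    have hx : x1 * (h * x2 * h⁻¹) ∈ S := mul_mem hx1 (hSh _ hx2)
    have ha : (co' (a / a0) : F) * a0 + ω ^ 2 / C.σ ω * ((co (a / a0) : F) * a0) = a := by
      show (a / a0 - (co (a / a0) : F) * lam) * a0 + lam * ((co (a / a0) : F) * a0) = a
      rw [sub_mul, div_mul_cancel₀ _ ha0]; ring
    rw [ha] at hv' e1
    generalize x1 * (h * x2 * h⁻¹) = x at hx e1
    generalize b1 + ω * C.σ ω * b2 - _ = b' at hv' e1
    obtain ⟨t, ht⟩ : ∃ t : Kfix C, (t : F) * s0 = b - b' := ⟨⟨(b - b') / s0, mem_Kfix.2 (by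
      unfold Vl at hv hv'
      rw [map_div₀, map_sub, hs0σ, div_neg, ← neg_div]
      congr 1
      linear_combination hv' - hv)⟩, div_mul_cancel₀ _ hs0⟩
    refine ⟨ψZ t * x, mul_mem (hSZ (hZmem t)) hx, ?_⟩
    rw [map_mul, hπZ, e1, Um_mul, ht]
    simp
  have hinjS : ∀ x ∈ S, ∀ y ∈ S, π x = π y → x = y := by
    intro x hx y hy hxy
    obtain ⟨a, b, hv, e1, e2⟩ := mul_mem (inv_mem hx) hy
    have hone : π (x⁻¹ * y) = 1 := by rw [map_mul, ← hxy, ← map_mul, inv_mul_cancel, map_one]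
    have hab := Um_inj (C := C) (x := (a, b)) (x' := (0, 0)) (by rw [← e1, hone, Um_zero])
    obtain rfl : a = 0 := congrArg Prod.fst hab
    rw [zero_div, hL0] at e2
    obtain ⟨t, ht⟩ := hZrange _ ((hker _).1 e2)
    have h5 := hπZ t
    rw [← ht, hone, ← Um_zero (C := C)] at h5
    have h6 : (t : F) * s0 = 0 := (congrArg Prod.snd (Um_inj (x := (0, 0)) (x' := (0, _)) h5)).symm
    obtain rfl : t = 0 := Subtype.ext ((mul_eq_zero.1 h6).resolve_right hs0)
    rw [hZ0] at ht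
    exact inv_mul_eq_one.1 ht
  choose φ hφS hφ using hfill
  let ψ : F → F → G := fun a b => if hv : Vl C a b then φ a b hv else 1
  have hψ : ∀ {a b}, Vl C a b → ψ a b ∈ S ∧ π (ψ a b) = Um C a b := fun {a b} hv => by
    simp only [ψ, dif_pos hv]; exact ⟨hφS a b hv, hφ a b hv⟩
  have uniq : ∀ {a b x}, Vl C a b → x ∈ S → π x = Um C a b → x = ψ a b := fun {a b x} hv hx e =>
    hinjS x hx _ (hψ hv).1 (e.trans (hψ hv).2.symm)
  refine ⟨ψ, fun {a b c d} hv hv' => uniq (hv.add hv') (mul_mem (hψ hv).1 (hψ hv').1)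
    (by rw [map_mul, (hψ hv).2, (hψ hv').2, Um_mul]), fun hv => (hψ hv).2, fun {a b} hv =>
    uniq (hv.smul hω) (hSh _ (hψ hv).1) (hTU hω hh (hψ hv).2), (uniq h0 huS hu).symm,
    (uniq (Vl.central.2 hs0σ) (hSZ (Subgroup.subset_closure ⟨0, by simp [hz]⟩)) hπz).symm⟩

end CfsgLib.SUThreePresent
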