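import Cfsg.Agent.Lib.SUThreePresent.Arith
import Cfsg.Agent.Lib.RegUnipU.Frame

/-!
`SU_3` in an anti-diagonal frame: the generators, the values of the relation words, generation, and the
centre.
-/

set_option autoImplicit false
set_option linter.unusedSectionVars false
set_option linter.unusedSimpArgs false

namespace CfsgLib.SUThreePresent

open Matrix Polynomial CfsgLib.RegUnipU CfsgLib.SLTwoPresent
open scoped commutatorElement

variable {F : Type*} [Field F] [Fintype F] {q : ℕ} {C : Conj F q}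

section Back

variable (R : Frame C)

/-- The matrix of an element of `SU_3` in the frame. -/
noncomputable def back : ↥(Cfsg.SU 3 F q) →* Matrix (Fin 3) (Fin 3) F where
  toFun g := LinearMap.toMatrix' (R.E.symm.toLinearMap ∘ₗ Matrix.toLin' (mat g) ∘ₗ R.E.toLinearMap)
  map_one' := Matrix.ext_of_mulVec_single fun i => by
    simp [LinearMap.toMatrix'_mulVec, Matrix.toLin'_apply, mat_one]
  map_mul' g g' := Matrix.ext_of_mulVec_single fun i => by
    rw [← Matrix.mulVec_mulVec, LinearMap.toMatrix'_mulVec, LinearMap.toMatrix'_mulVec,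
      LinearMap.toMatrix'_mulVec]
    simp [Matrix.toLin'_apply, mulVec_mul]

theorem back_mulVec (g : ↥(Cfsg.SU 3 F q)) (x : Fin 3 → F) :
    back R g *ᵥ x = R.E.symm (mat g *ᵥ R.E x) := by
  show LinearMap.toMatrix' _ *ᵥ x = _
  rw [LinearMap.toMatrix'_mulVec]
  simp [Matrix.toLin'_apply]

theorem back_inj : Function.Injective (back R) := fun g g' h => R.ext fun x => by
  have := congrArg (fun M => R.E (M *ᵥ x)) h
  simpa only [back_mulVec, LinearEquiv.apply_symm_apply] using this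

theorem back_ofMat {M : Matrix (Fin 3) (Fin 3) F} (hd : M.det = 1)
    (hp : ∀ x y, h0 C (M *ᵥ x) (M *ᵥ y) = h0 C x y) : back R (R.ofMat M) = M :=
  Matrix.ext_of_mulVec_single fun i => by
    rw [back_mulVec, R.ofMat_apply hd hp, LinearEquiv.symm_apply_apply]

theorem exists_um {a b : F} (hv : Vl C a b) : ∃ g, back R g = Um C a b := by
  refine ⟨R.ofMat (Um C a b), back_ofMat R (by simp [Um, det_fin_three]) fun x y => ?_⟩
  simp [h0, Um, mulVec, dotProduct, Fin.sum_univ_three, C.hσ2]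
  unfold Vl at hv
  linear_combination (x 2 * C.σ (y 2)) * hv

theorem exists_tt {γ : F} (hγ : γ ≠ 0) : ∃ g, back R g = Tm C γ := by
  have hσ : C.σ γ ≠ 0 := (map_ne_zero C.σ).2 hγ
  refine ⟨R.ofMat (Tm C γ), back_ofMat R (by simp [Tm, det_fin_three]; field_simp) fun x y => ?_⟩
  simp [h0, Tm, mulVec, dotProduct, Fin.sum_univ_three, C.hσ2, map_div₀, map_inv₀]
  field_simp

theorem exists_ww : ∃ g, back R g = Wm := by
  refine ⟨R.ofMat Wm, back_ofMat R (by simp [Wm, det_fin_three]) fun x y => ?_⟩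
  simp [h0, Wm, mulVec, dotProduct, Fin.sum_univ_three]
  ring

/-- The unipotent and monomial elements generate. -/
theorem range_eq_top (hF : Fintype.card F = q ^ 2) (h2 : q ≠ 2) {G : Type*} [Group G]
    (f : G →* ↥(Cfsg.SU 3 F q)) (hU : ∀ a b, Vl C a b → ∃ x, back R (f x) = Um C a b)
    (hW : ∃ x, back R (f x) = Wm) : f.range = ⊤ := by
  refine eq_top_of_tm hF C le_rfl (fun h => h2 h.2) _ fun v c hv hc => ?_
  have he : Cfsg.hermForm 3 F q (R.E ![1, 0, 0]) (R.E ![1, 0, 0]) = 0 := by rw [R.E_form]; simp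
  have hbase : ∀ l, C.σ l = -l → C.tm (R.E ![1, 0, 0]) l ∈ f.range := by
    intro l hl
    obtain ⟨x, hx⟩ := hU 0 l (Vl.central.2 hl)
    refine ⟨x, R.ext3 fun a b d => ?_⟩
    have := congrArg (fun M => R.E (M *ᵥ ![a, b, d])) hx
    simp only [back_mulVec, LinearEquiv.apply_symm_apply] at this
    rw [this, R.tme_apply hl]
    congr 1
    ext i; fin_cases i <;> simp [Um, mulVec, dotProduct, Fin.sum_univ_three]
  obtain ⟨y, rfl⟩ := R.E.surjective v
  have hy := hv
  rw [Frame.eta y, R.E_form] at hy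
  by_cases h2' : y 2 = 0
  · rw [h2', map_zero, mul_zero, zero_mul, add_zero, zero_add, mul_eq_zero, map_eq_zero, or_self] at hy
    rw [show y = (y 0) • ![1, 0, 0] by ext i; fin_cases i <;> simp [hy, h2'], map_smul,
      C.tm_smul _ he hc]
    exact hbase _ (C.trace_zero_mul hc (C.norm_fixed _))
  set r := y 2 with hr
  have hσr : C.σ r ≠ 0 := (map_ne_zero C.σ).2 h2'
  obtain ⟨x, hx⟩ := hU (-C.σ (y 1 / r)) (y 0 / r) (by
    unfold Vl
    simp only [map_neg, map_div₀, C.hσ2]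
    field_simp
    linear_combination hy)
  obtain ⟨xw, hxw⟩ := hW
  have h2'' : y 2 ≠ 0 := h2'
  have hg : R.E y = r • (mat (f (x * xw)) *ᵥ R.E ![1, 0, 0]) := by
    rw [← R.E.apply_symm_apply (mat (f (x * xw)) *ᵥ R.E ![1, 0, 0]), ← back_mulVec, map_mul, map_mul, hx,
      hxw, ← map_smul]
    congr 1
    ext i; fin_cases i <;>
      simp [Um, Wm, mulVec, dotProduct, Matrix.mul_apply, Fin.sum_univ_three, C.hσ2, hr] <;> field_simp
  rw [hg, C.tm_smul _ (by rw [form_mulVec, he]) hc,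
    ← C.conj_tm _ he (C.trace_zero_mul hc (C.norm_fixed _))]
  exact mul_mem (mul_mem ⟨_, rfl⟩ (hbase _ (C.trace_zero_mul hc (C.norm_fixed _))))
    (inv_mem ⟨_, rfl⟩)

end Back

section Values

variable {G : Type*} [Group G] (π : G →* Matrix (Fin 3) (Fin 3) F)

/-- The first coordinate of a unipotent element. -/
def HasA (C : Conj F q) (x : G) (a : F) : Prop := ∃ b, Vl C a b ∧ π x = Um C a b

variable {π}

theorem pi_conj {g : G} {γ : F} (hγ : γ ≠ 0) (hg : π g = Tm C γ) {x : G} {a b : F}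
    (hx : π x = Um C a b) :
    π (g * x * g⁻¹) = Um C (γ ^ 2 / C.σ γ * a) (γ * C.σ γ * b) := by
  rw [map_mul, map_mul, hg, hx, Tm_Um hγ, mul_assoc, ← hg, ← map_mul, mul_inv_cancel, map_one, mul_one]

theorem pi_pow {g : G} {γ : F} (hg : π g = Tm C γ) (k : ℕ) : π (g ^ k) = Tm C (γ ^ k) := by
  induction k with
  | zero => rw [pow_zero, pow_zero, map_one, Tm_one]
  | succ k ih => rw [pow_succ, map_mul, ih, hg, Tm_mul, pow_succ]

theorem HasA.one : HasA π C 1 0 := ⟨0, Vl.zero, by rw [map_one, Um_zero]⟩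

theorem HasA.mul {x y : G} {a c : F} (hx : HasA π C x a) (hy : HasA π C y c) :
    HasA π C (x * y) (a + c) := by
  obtain ⟨b, hv, e⟩ := hx
  obtain ⟨d, hv', e'⟩ := hy
  exact ⟨_, hv.add hv', by rw [map_mul, e, e', Um_mul]⟩

theorem HasA.inv {x : G} {a : F} (hx : HasA π C x a) : HasA π C x⁻¹ (-a) := by
  obtain ⟨b, hv, e⟩ := hx
  refine ⟨_, hv.inv, ?_⟩
  have h1 : π x⁻¹ * Um C a b = 1 := by rw [← e, ← map_mul, inv_mul_cancel, map_one]
  have h2 : Um C a b * Um C (-a) (C.σ b) = 1 := by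
    rw [Um_mul, add_neg_cancel, map_neg, show b + C.σ b - a * -C.σ a = b + C.σ b + a * C.σ a by ring,
      show b + C.σ b + a * C.σ a = 0 from hv, Um_zero]
  rw [← one_mul (Um C (-a) _), ← h1, mul_assoc, h2, mul_one]

theorem HasA.conj {g : G} {γ : F} (hγ : γ ≠ 0) (hg : π g = Tm C γ) {x : G} {a : F}
    (hx : HasA π C x a) : HasA π C (g * x * g⁻¹) (γ ^ 2 / C.σ γ * a) := by
  obtain ⟨b, hv, e⟩ := hx
  exact ⟨_, hv.smul hγ, pi_conj hγ hg e⟩

theorem HasA.pow {x : G} {a : F} (hx : HasA π C x a) (n : ℕ) : HasA π C (x ^ n) (n * a) := by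
  induction n with
  | zero => simpa using HasA.one
  | succ n ih => rw [pow_succ, Nat.cast_succ, add_mul, one_mul]; exact ih.mul hx

theorem HasA.central {x : G} (hx : HasA π C x 0) : ∃ s, C.σ s = -s ∧ π x = Um C 0 s :=
  hx.imp fun _ h => ⟨Vl.central.1 h.1, h.2⟩

theorem HasA.eq {x : G} {a : F} (hx : HasA π C x a) {c : F} (h : a = c) : HasA π C x c := h ▸ hx

variable {p : ℕ} [hp : Fact p.Prime] [Algebra (ZMod p) F]

/-- Values of polynomial words under an additive relation. -/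
theorem rel_word {P : G → F → Prop} (h1 : P 1 0)
    (hmul : ∀ {x y : G} {a c : F}, P x a → P y c → P (x * y) (a + c)) {u g : G} (l a : F)
    (hi : ∀ i : ℕ, P (g ^ i * u * (g ^ i)⁻¹) (l ^ i * a)) (Q : (ZMod p)[X]) :
    P (word u g Q) (aeval l Q * a) := by
  have hpow : ∀ {x : G} {c : F}, P x c → ∀ n : ℕ, P (x ^ n) (n * c) := fun {x c} hx n => by
    induction n with
    | zero => simpa using h1
    | succ n ih => rw [pow_succ, Nat.cast_succ, add_mul, one_mul]; exact hmul ih hx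
  rw [aeval_eq_sum_range, Finset.sum_mul, word]
  show P _ (((Finset.range (Q.natDegree + 1)).val.map fun i => (Q.coeff i • l ^ i) * a)).sum
  rw [Finset.range_val, Multiset.range, Multiset.map_coe, Multiset.sum_coe]
  induction List.range (Q.natDegree + 1) with
  | nil => simpa using h1
  | cons i L ih =>
    rw [List.map_cons, List.prod_cons, List.map_cons, List.sum_cons]
    refine hmul ?_ ih
    have e : (Q.coeff i • l ^ i) * a = ((Q.coeff i).val : F) * (l ^ i * a) := by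
      conv_lhs => rw [← ZMod.natCast_zmod_val (Q.coeff i), Nat.cast_smul_eq_nsmul, nsmul_eq_mul]
      ring
    rw [e]
    exact hpow (hi i) _

theorem hasA_word {u g : G} {γ a : F} (hγ : γ ≠ 0) (hg : π g = Tm C γ) (hu : HasA π C u a)
    (Q : (ZMod p)[X]) : HasA π C (word u g Q) (aeval (γ ^ 2 / C.σ γ) Q * a) := by
  refine rel_word HasA.one (fun hx hy => hx.mul hy) _ a (fun i => ?_) Q
  refine (hu.conj (pow_ne_zero i hγ) (pi_pow hg i)).eq ?_
  rw [map_pow, ← pow_mul, mul_comm i 2, pow_mul, ← div_pow]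

theorem coe_aeval [Algebra (ZMod p) (Kfix C)] (t : Kfix C) (Q : (ZMod p)[X]) :
    ((aeval t Q : Kfix C) : F) = aeval (t : F) Q := by
  let f : Kfix C →ₐ[ZMod p] F :=
    { (Kfix C).subtype with
      commutes' := fun r => RingHom.congr_fun (Subsingleton.elim
        ((Kfix C).subtype.comp (algebraMap (ZMod p) (Kfix C))) (algebraMap (ZMod p) F)) r }
  exact (aeval_algHom_apply f t Q).symm

variable {ω : F} (O : Gen F q ω) [Algebra (ZMod p) (Kfix C)] {u h : G} {a0 b0 : F}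
include O

theorem lam_g : (ω ^ (q + 1)) ^ 2 / C.σ (ω ^ (q + 1)) = ((xK C ω : Kfix C) : F) := by
  have hx1 : ω ^ (q + 1) = ω * C.σ ω := by rw [C.hσ, pow_succ']
  have hσx : C.σ (ω * C.σ ω) = ω * C.σ ω := K_sigma (xK C ω)
  rw [hx1, hσx, sq, mul_div_assoc, div_self (mul_ne_zero O.ne_zero ((map_ne_zero C.σ).2 O.ne_zero)),
    mul_one]
  rfl

theorem lam_e : (ω ^ (q - 1)) ^ 2 / C.σ (ω ^ (q - 1)) = (ω ^ (q - 1)) ^ 3 := by
  rw [eq_inv_of_mul_eq_one_right (O.theta_sigma C), div_inv_eq_mul, ← pow_succ]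

theorem pi_zel (h0 : Vl C a0 b0) (hu : π u = Um C a0 b0) (hh : π h = Tm C ω) :
    π (zel u h) = Um C 0 (s0Of C ω a0) := by
  rw [zel, commutatorElement_def]
  have hv : π (h * u * h⁻¹) = Um C (ω ^ 2 / C.σ ω * a0) (ω * C.σ ω * b0) := pi_conj O.ne_zero hh hu
  generalize h * u * h⁻¹ = v at hv ⊢
  have e : π (u * v) = Um C 0 (s0Of C ω a0) * π (v * u) := by
    rw [map_mul, map_mul, hu, hv, Um_comm]
    congr 2
    simp only [s0Of, map_mul]; ring
  rw [show u * v * u⁻¹ * v⁻¹ = u * v * (v * u)⁻¹ by group, map_mul, e, mul_assoc, ← map_mul,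
    mul_inv_cancel, map_one, mul_one]

theorem pi_zword (h0 : Vl C a0 b0) (hu : π u = Um C a0 b0) (hh : π h = Tm C ω) (Q : (ZMod p)[X]) :
    π (word (zel u h) h Q) = Um C 0 (((aeval (xK C ω) Q : Kfix C) : F) * s0Of C ω a0) := by
  rw [coe_aeval]
  refine rel_word (P := fun y t => π y = Um C 0 t) (by rw [map_one, Um_zero])
    (fun {x y a c} hx hy => by
      show π (x * y) = _
      rw [map_mul, hx, hy, Um_mul]; simp) _ _ (fun i => ?_) Q
  show π _ = _
  rw [pi_conj (pow_ne_zero i O.ne_zero) (pi_pow hh i) (pi_zel O h0 hu hh), mul_zero, map_pow, ← mul_pow]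
  rfl

theorem exists_zword (hq3 : 3 ≤ q) (h0 : Vl C a0 b0) (ha0 : a0 ≠ 0) (hu : π u = Um C a0 b0)
    (hh : π h = Tm C ω) {s : F} (hs : C.σ s = -s) :
    ∃ Q : (ZMod p)[X], π (word (zel u h) h Q) = Um C 0 s := by
  have hs0 : s0Of C ω a0 ≠ 0 :=
    mul_ne_zero (mul_ne_zero ha0 ((map_ne_zero C.σ).2 ha0)) (O.lam_ne C hq3)
  have hσ0 : C.σ (s0Of C ω a0) = -s0Of C ω a0 := by
    simp only [s0Of, map_mul, map_sub, C.hσ2]; ring
  obtain ⟨Q, hQ⟩ := aeval_surj (p := p) O
    (⟨s / s0Of C ω a0, mem_Kfix.2 (by rw [map_div₀, hs, hσ0, neg_div_neg_eq])⟩ : Kfix C)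
  refine ⟨Q, ?_⟩
  rw [pi_zword O h0 hu hh, hQ]
  show Um C 0 (s / s0Of C ω a0 * _) = _
  rw [div_mul_cancel₀ _ hs0]

theorem exists_uword (hq3 : 3 ≤ q) (h0 : Vl C a0 b0) (ha0 : a0 ≠ 0) (hu : π u = Um C a0 b0)
    (hh : π h = Tm C ω) {a b : F} (hv : Vl C a b) :
    ∃ P1 P2 P3 : (ZMod p)[X],
      π (word u (h ^ (q + 1)) P1 * (h * word u (h ^ (q + 1)) P2 * h⁻¹) * word (zel u h) h P3) =
        Um C a b := by
  set lam := ω ^ 2 / C.σ ω with hlam
  set dl := lam - C.σ lam with hdl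
  have hdl0 : dl ≠ 0 := O.lam_ne C hq3
  have hdlσ : C.σ dl = -dl := by rw [hdl, map_sub, C.hσ2]; ring
  set e := a / a0
  set t := (e - C.σ e) / dl with ht
  have htσ : C.σ t = t := by rw [ht, map_div₀, map_sub, C.hσ2, hdlσ, div_neg, ← neg_div, neg_sub]
  have hsσ : C.σ (e - t * lam) = e - t * lam := by
    rw [map_sub, map_mul, htσ, ht]
    field_simp
    rw [hdl]; ring
  obtain ⟨P1, hP1⟩ := aeval_surj (p := p) O (⟨e - t * lam, mem_Kfix.2 hsσ⟩ : Kfix C)
  obtain ⟨P2, hP2⟩ := aeval_surj (p := p) O (⟨t, mem_Kfix.2 htσ⟩ : Kfix C)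
  have hA : ∀ Q : (ZMod p)[X],
      HasA π C (word u (h ^ (q + 1)) Q) (((aeval (xK C ω) Q : Kfix C) : F) * a0) := fun Q =>
    (hasA_word (pow_ne_zero _ O.ne_zero) (pi_pow hh _) ⟨b0, h0, hu⟩ Q).eq
      (by rw [coe_aeval, lam_g O])
  obtain ⟨b', hv', e'⟩ := ((hA P1).mul ((hA P2).conj O.ne_zero hh)).eq (c := a) (by
    rw [hP1, hP2]
    show (e - t * lam) * a0 + lam * (t * a0) = a
    rw [sub_mul, div_mul_cancel₀ _ ha0]; ring)
  obtain ⟨P3, hP3⟩ := exists_zword (p := p) O hq3 h0 ha0 hu hh (s := b - b') (by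
    unfold Vl at hv hv'
    rw [map_sub]
    linear_combination hv - hv')
  exact ⟨P1, P2, P3, by rw [map_mul, e', hP3, Um_mul]; simp⟩

end Values

/-- The centre of `SU_n` is cyclic. -/
theorem center_le_zpowers (hF : Fintype.card F = q ^ 2) {n : ℕ} (hn : 1 ≤ n) :
    ∃ z ∈ Subgroup.center (Cfsg.SU n F q), Subgroup.center (Cfsg.SU n F q) ≤ Subgroup.zpowers z := by
  classical
  have hsc : ∀ z : Subgroup.center (Cfsg.SU n F q),
      z.1.1.1 = Matrix.diagonal fun _ => z.1.1.1 ⟨0, hn⟩ ⟨0, hn⟩ := fun z => by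
    ext i j
    by_cases hij : i = j
    · subst hij
      rw [Matrix.diagonal_apply_eq]
      exact (CfsgLib.ClassicalGroups.center_SU_scalar hF z i ⟨0, hn⟩).2
    · rw [Matrix.diagonal_apply_ne _ hij]
      exact (CfsgLib.ClassicalGroups.center_SU_scalar hF z i j).1 hij
  let f : Subgroup.center (Cfsg.SU n F q) →* F :=
    { toFun := fun z => z.1.1.1 ⟨0, hn⟩ ⟨0, hn⟩
      map_one' := by simp
      map_mul' := fun z z' => by
        show (z.1.1.1 * z'.1.1.1) _ _ = _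
        rw [hsc z, Matrix.diagonal_mul, Matrix.diagonal_apply_eq] }
  have hf : Function.Injective f := fun z z' (h : z.1.1.1 _ _ = z'.1.1.1 _ _) =>
    Subtype.ext (Subtype.ext (Subtype.ext (by rw [hsc z, hsc z', h])))
  haveI : IsCyclic (Subgroup.center (Cfsg.SU n F q)) := isCyclic_of_subgroup_isDomain f hf
  obtain ⟨z, hz⟩ := IsCyclic.exists_generator (α := Subgroup.center (Cfsg.SU n F q))
  refine ⟨z, z.2, fun y hy => ?_⟩
  obtain ⟨k, hk⟩ := Subgroup.mem_zpowers_iff.1 (hz ⟨y, hy⟩)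
  exact Subgroup.mem_zpowers_iff.2 ⟨k, by rw [← Subgroup.coe_zpow, hk]⟩

end CfsgLib.SUThreePresent
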